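import Cfsg.Agent.Semi.Four
import Cfsg.Agent.Cond.S4418
import Cfsg.Agent.Inst.S0949

/-! The configuration `Fr` does not occur. -/

set_option autoImplicit false
set_option linter.unusedSectionVars false

open scoped commutatorElement

namespace Cfsg.Lib.Semi

open Cfsg Subgroup Cfsg.Lib.Trans Cfsg.Lib.Trans.TJ Cfsg.Lib.Gold Cfsg.Lib.Bau Cfsg.Lib.Bau.Cy

universe u

variable {G : Type u} [Group G] [Finite G] {A H K M N P S T U W X Z : Subgroup G}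
  {a b c e f g j p q r s t u v w x y z : G}

theorem burn (hS : IsSylowIn 2 S A) (h1 : S ≤ C1 f) (h2 : S ≤ C1 c) (ha : a ∈ A)
    (e : a * f * a⁻¹ = c) : ∃ n : G, n * f * n⁻¹ = c ∧ ∀ s ∈ S, n * s * n⁻¹ ∈ S := by
  obtain ⟨k, hk, h3⟩ := (hS.mono (le_inf hS.le h2) inf_le_left).exists_cj_le
    (hS.cj a).isPGroup (cj_le_iff.2 fun s hs => ⟨A.mul_mem (A.mul_mem ha (hS.le hs)) (A.inv_mem ha),
      mem_C1.2 (by rw [← e, conj_mul', conj_mul', mem_C1.1 (h1 hs)])⟩)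
  refine ⟨k * a, ?_, fun s hs => ?_⟩
  · calc k * a * f * (k * a)⁻¹ = k * (a * f * a⁻¹) * k⁻¹ := by group
      _ = c := by rw [e, mem_C1.1 hk.2]; group
  · simpa [mul_assoc] using h3 (conj_mem_cj.2 (conj_mem_cj.2 hs))

theorem not_homo (hA : ⁅A, A⁆ = A) (hS : IsSylowIn 2 S A) (hy : y ∈ S) (hq : q ∈ S)
    (y4 : orderOf y = 4) (q4 : orderOf q = 4) (c : y * q = q * y)
    (h1 : ∀ w ∈ zpowers y, w ∈ zpowers q → w = 1)
    (h2 : ∀ K : Subgroup G, y ∈ K → q ∈ K → S ≤ K) : False := by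
  have p4 : ∀ z : G, orderOf z = 4 → ∀ i j : ZMod 4, z ^ (i + j).val = z ^ i.val * z ^ j.val :=
    fun z hz i j => by
      rw [ZMod.val_add, ← pow_eq_pow_mod _ (show z ^ 4 = 1 from hz ▸ pow_orderOf_eq_one z), pow_add]
  have p0 : ∀ z : G, orderOf z = 4 → ∀ i : ZMod 4, z ^ i.val = 1 → i = 0 := fun z hz i e =>
    (ZMod.val_eq_zero i).1 (Nat.eq_zero_of_dvd_of_lt
      (hz.symm.dvd.trans (orderOf_dvd_of_pow_eq_one e)) i.val_lt)
  let η : Multiplicative (ZMod 4 × ZMod 4) →* S := MonoidHom.mk'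
    (fun m => ⟨y ^ m.toAdd.1.val * q ^ m.toAdd.2.val, mul_mem (pow_mem hy _) (pow_mem hq _)⟩)
    fun m m' => Subtype.ext (by
      simp only [toAdd_mul, Prod.fst_add, Prod.snd_add, p4 y y4, p4 q q4, coe_mul, mul_assoc]
      rw [← mul_assoc (y ^ m'.toAdd.1.val), (Commute.pow_pow c _ _).eq, mul_assoc])
  have e4 : Function.Surjective η := fun z => by
    obtain ⟨_, ⟨m, rfl⟩, e⟩ := h2 (η.range.map S.subtype)
      ⟨_, ⟨Multiplicative.ofAdd (1, 0), rfl⟩, show y ^ 1 * q ^ 0 = y by simp⟩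
      ⟨_, ⟨Multiplicative.ofAdd (0, 1), rfl⟩, show y ^ 0 * q ^ 1 = q by simp⟩ z.2
    exact ⟨m, Subtype.ext e⟩
  have e5 : Function.Injective η := (injective_iff_map_eq_one η).2 fun m e => by
    have e1 : y ^ m.toAdd.1.val * q ^ m.toAdd.2.val = 1 := congrArg Subtype.val e
    have e2 := h1 _ (npow_mem_zpowers y _) (by
      rw [eq_inv_of_mul_eq_one_left e1]; exact inv_mem (npow_mem_zpowers q _))
    rw [e2, one_mul] at e1
    exact Multiplicative.toAdd.injective (Prod.ext (p0 y y4 _ e2) (p0 q q4 _ e1))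
  haveI := Agent.Cond.S4418h.homo (m := 2) le_rfl _ A hS.toSylow rfl
    ⟨(subgroupOfEquivOfLe hS.le).trans (MulEquiv.ofBijective η ⟨e5, e4⟩).symm⟩
  haveI : Nontrivial A := ⟨⟨⟨y, hS.le hy⟩, 1, fun e => by
    rw [show y = 1 from congrArg Subtype.val e, orderOf_one] at y4; omega⟩⟩
  refine (Group.IsSolvable.commutator_lt_top_of_nontrivial A).ne (eq_top_iff.2 fun a _ => ?_)
  rw [← mem_map_iff_mem A.subtype_injective, map_subtype_commutator, hA]; exact a.2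

theorem ord4 (h : y * y = z) (z2 : z * z = 1) (z1 : z ≠ 1) : orderOf y = 4 :=
  orderOf_eq_prime_pow (p := 2) (n := 1) (by rw [pow_one, pow_two, h]; exact z1)
    (by rw [pow_succ, pow_one, pow_mul, pow_two, pow_two, h, z2])

/-- the second case. -/
structure Be (A H T U W : Subgroup G) (t r z e y : G) : Prop extends Fr A H T U t r z e where
  yS : y ∈ T ⊓ A
  ye : y * e = e * y
  zy : z ∈ Z2 y
  ny : T ≤ Ns (zpowers y)
  tw : ∀ a ∈ T, ∀ b ∈ T, a ∉ W → b ∉ W → a * b ∈ W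
  tW : t ∉ W
  rW : r ∈ W
  sw : ∀ s ∈ T ⊓ A, s ∈ W → s ∈ zpowers y ∨ s * e ∈ zpowers y
  sq : ∀ g ∈ W, g * g ∈ zpowers y
  gn : ∀ v ∈ T ⊓ A, v ∉ W → y ∈ zpowers (t * v * (t * v))

theorem Fr.exists_be (h : Fr A H T U t r z e) : ∃ W y, Be A H T U W t r z e y := by
  obtain ⟨x, hx, W, h1, h2, ht, hr⟩ := h.exists_W
  have hA := h.not_mem_A hx h1 h2 ht hr
  obtain ⟨m, hm⟩ := pow2 h.pg hx
  have xT := zpowers_le.2 hx
  have yS : x * x ∈ T ⊓ A := ⟨T.mul_mem hx hx, h.twoA (h.syl.le hx) (h.syl.le hx) hA hA⟩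
  have h3 : ∀ w ∈ zpowers x, ∀ u ∈ U, w * u ∈ A → w ∈ Z2 x := fun w hw u hu e => by_contra fun e' =>
    hA (zpowers_le.2 ((A.mul_mem_cancel_right (h.US hu).2).1 e) (gen hm hw e'))
  have zy : z ∈ Z2 (x * x) := by
    obtain ⟨w, hw, u, hu, e⟩ := (h1 r).1 hr
    have h4 := h3 w hw u hu (e ▸ h.rS.2)
    rw [← h.r2, e, mul_assoc, ← mul_assoc u, ← h.cu' (h.Z2_e hx h4) (xT hw) hu, mul_assoc,
      h.u2 hu, mul_one]
    exact sq_mem h4
  have sq : ∀ g ∈ W, g * g ∈ Z2 x := fun g hg => by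
    obtain ⟨w, hw, u, hu, rfl⟩ := (h1 g).1 hg
    rcases h.sq_u (xT hw) hu with e | e <;> rw [e]
    exacts [sq_mem hw, mul_mem (sq_mem hw) (Z2_le zy)]
  refine ⟨W, x * x, h, yS, h.sq_e hx, zy, ns_zp fun g hg => ?_, h2, ht, hr, fun s hs hW => ?_, sq,
    fun v hv hW => ?_⟩
  · rw [← conj_mul']
    exact sq _ (conj_of_two h2 hg hx ((h1 x).2 ⟨x, mem_zpowers x, 1, one_mem U, by simp⟩))
  · obtain ⟨w, hw, u, hu, rfl⟩ := (h1 s).1 hW
    exact h.of_u (Z2_le zy) (h3 w hw u hu hs.2) hu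
  · have h4 := h2 t h.tT v hv.1 ht hW
    obtain ⟨k, hk⟩ := pow2 h.pg yS.1
    refine gen hk (sq _ h4) fun h5 => ?_
    obtain ⟨w, hw, u, hu, e⟩ := (h1 _).1 h4
    have h6 : w ∉ Z2 x := fun e' => h.tA ((A.mul_mem_cancel_right hv.2).1
      (e ▸ A.mul_mem (zpowers_le.2 yS.2 e') (h.US hu).2))
    have h7 : w * w ∈ Z2 (x * x) := by
      rcases h.sq_u (xT hw) hu with e' | e' <;> rw [e, e'] at h5
      exacts [h5, (mul_mem_cancel_right zy).1 h5]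
    refine not_mem_Z2 hk (fun e' => h.z1 ?_) (zpowers_le.2 h7 (sq_mem (gen hm hw h6)))
    rwa [e', Z2, mul_one, zpowers_one_eq_bot, mem_bot] at zy

namespace Be

variable (h : Be A H T U W t r z e y)
include h

theorem zY : z ∈ zpowers y := Z2_le h.zy

theorem YS : zpowers y ≤ T ⊓ A := zpowers_le.2 h.yS

theorem inv (hw : w ∈ zpowers y) (w2 : w * w = 1) : w = 1 ∨ w = z := uniq hw h.zY w2 h.z2 h.z1

theorem eY : e ∉ zpowers y := fun e => (h.inv e h.e2).elim h.e1 h.ez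

theorem cjY (hg : g ∈ T) (hw : w ∈ zpowers y) : g * w * g⁻¹ ∈ zpowers y :=
  mem_normalizer_conj (h.ny hg) hw

theorem Ye (hw : w ∈ zpowers y) : w * e = e * w :=
  (mul_inv_eq_iff_eq_mul.1 (conj_of (by rw [← h.ye]; group) hw)).symm

theorem ee (s : G) : s * e * e = s := by rw [mul_assoc, h.e2, mul_one]

theorem We (hs : s ∈ T ⊓ A) (hW : s ∈ W) : s * e = e * s := (h.sw s hs hW).elim h.Ye fun e' => by
  have := h.Ye e'
  rwa [← mul_assoc, mul_right_cancel_iff] at this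

theorem Se (hp : p ∈ T ⊓ A) (hW : p ∉ W) (e' : p * e = e * p) : T ⊓ A ≤ C1 e := fun s hs =>
  mem_C1.2 ((em _).elim (h.We hs) fun h1 => by
    have := h.We (mul_mem hs hp) (h.tw s hs.1 p hp.1 h1 hW)
    rwa [mul_assoc, e', ← mul_assoc, ← mul_assoc, mul_right_cancel_iff] at this)

theorem invW (hs : s ∈ T ⊓ A) (hW : s ∈ W) (s2 : s * s = 1) :
    s = 1 ∨ s = z ∨ s = e ∨ s = e * z := by
  rcases h.sw s hs hW with h1 | h1
  · exact (h.inv h1 s2).imp_right Or.inl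
  · rcases h.inv h1 (by rw [mul_assoc, ← mul_assoc e, ← h.We hs hW, h.ee, s2]) with e' | e'
    · exact Or.inr (Or.inr (Or.inl (by rw [← h.ee s, e', one_mul])))
    · exact Or.inr (Or.inr (Or.inr (by rw [← h.ee s, e', h.cz h.eS.1])))

theorem sqW (hg : g ∈ T) : g * g ∈ W :=
  (em _).elim (fun e => mul_mem e e) fun e => h.tw g hg g hg e e

theorem comm1 (ha : a ∈ T ⊓ A) (hW : a ∈ W) (hb : b ∈ T) : ⁅a, b⁆ ∈ zpowers y := by
  rcases h.sw a ha hW with h1 | h1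
  · rw [commutatorElement_def, mul_assoc, mul_assoc, ← mul_assoc b]
    exact mul_mem h1 (h.cjY hb (inv_mem h1))
  · have e1 : ⁅a, b⁆ = a * (b * e * b⁻¹) * (b * (a * e)⁻¹ * b⁻¹) := by
      rw [commutatorElement_def]; group
    rw [e1]
    refine mul_mem ?_ (h.cjY hb (inv_mem h1))
    rcases h.ce b hb with e' | e' <;> rw [e']
    exacts [h1, by rw [← mul_assoc]; exact mul_mem h1 h.zY]

theorem comm2 (ha : a ∈ T ⊓ A) (hb : b ∈ T ⊓ A) : ⁅a, b⁆ ∈ zpowers y := by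
  by_cases h1 : a ∈ W
  · exact h.comm1 ha h1 hb.1
  by_cases h2 : b ∈ W
  · rw [← commutatorElement_inv]; exact inv_mem (h.comm1 hb h2 ha.1)
  · have := h.comm1 (mul_mem ha hb) (h.tw a ha.1 b hb.1 h1 h2) hb.1
    rwa [show ⁅a * b, b⁆ = ⁅a, b⁆ by simp only [commutatorElement_def]; group] at this

theorem one (ha : a ∈ A) : a * e * a⁻¹ ≠ z := fun h1 => by
  have zS := inf_le_left.trans h.zc (a := T ⊓ A)
  obtain ⟨g, hg, h2, hp⟩ := move h.sylS zS ha h1 h.rS.2 (m := 2) (by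
    rw [pow_two 2, pow_mul, pow_two, pow_two, h.r2, h.z2]) (h.We h.rS h.rW)
  have h3 : g * r * g⁻¹ * (g * r * g⁻¹) = g * z * g⁻¹ := by rw [conj_mul', h.r2]
  generalize g * r * g⁻¹ = p at hp h3
  have h4 : p * p ∉ zpowers y := fun e' => h.ez (by
    have := h2.trans (h.inv_eq h.zY (h3 ▸ e')).symm
    rwa [mul_left_inj, mul_right_inj] at this)
  have h5 : T ⊓ A ≤ C1 e := h.Se hp (fun e' => h4 (h.sq p e')) (by
    have h5 : p * (p * p) = p * p * p := (mul_assoc _ _ _).symm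
    rcases h.invW (mul_mem hp hp) (h.sqW hp.1) (by rw [h3, conj_mul', h.z2]; group) with
      e' | e' | e' | e' <;> rw [e'] at h4 h5
    · exact absurd (one_mem _) h4
    · exact absurd h.zY h4
    · exact h5
    · rwa [mul_assoc, ← h.cz hp.1, ← mul_assoc, ← mul_assoc, mul_right_cancel_iff] at h5)
  obtain ⟨n, h6, h7⟩ := burn h.sylS zS h5 (A.inv_mem ha) (by rw [← h1]; group)
  have h8 : ∀ w, z ∈ zpowers w → n * w * n⁻¹ ∉ zpowers y := fun w hw e' =>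
    h.eY (zpowers_le.2 e' (h6 ▸ cj_zpowers n w ▸ conj_mem_cj.2 hw))
  have hq := h7 y h.yS
  obtain ⟨m, hm⟩ := pow2 h.pg h.yS.1
  have hyy := mul_mem (mem_zpowers y) (mem_zpowers y)
  have y2 : y * y = z := by
    refine (h.inv hyy (by_contra fun e' => ?_)).resolve_left fun e' => h.z1 (by
      simpa [Z2, e'] using h.zy)
    obtain ⟨k, hk⟩ := pow2 h.pg (h.YS (mul_mem hyy hyy)).1
    obtain ⟨v, hv, v2, v1⟩ := exists_inv hk e'
    refine h8 _ ((h.inv (zpowers_le.2 (mul_mem hyy hyy) hv) v2).resolve_left v1 ▸ hv) ?_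
    rw [← conj_mul', ← conj_mul']
    exact h.sq _ (h.sqW hq.1)
  have q2 : n * y * n⁻¹ * (n * y * n⁻¹) = e := by rw [conj_mul', y2, h6]
  have h9 : n * y * n⁻¹ * y * (n * y * n⁻¹)⁻¹ = y :=
    (sq_eq (h.cjY hq.1 (mem_zpowers y)) (mem_zpowers y) h.zY h.z2 h.z1 (by
      rw [conj_mul', y2, h.cz' hq.1])).resolve_right fun e' => h8 ⁅n * y * n⁻¹, y⁆ (by
        rw [commutatorElement_def, e', h.cz h.yS.1, mul_inv_cancel_right]; exact mem_zpowers z) (by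
        rw [show ∀ q, n * ⁅q, y⁆ * n⁻¹ = ⁅n * q * n⁻¹, n * y * n⁻¹⁆ from fun q => by
          simp only [commutatorElement_def]; group]
        exact h.comm2 (h7 _ hq) hq)
  generalize n * y * n⁻¹ = q at hq q2 h9
  have qW : q ∉ W := fun e' => h.eY (q2 ▸ h.sq q e')
  refine not_homo h.perf h.sylS h.yS hq (ord4 y2 h.z2 h.z1) (ord4 q2 h.e2 h.e1)
    (mul_inv_eq_iff_eq_mul.1 h9).symm (fun w hw hw' => by_contra fun w1 => ?_) fun K hy hK => ?_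
  · obtain ⟨k, hk⟩ := pow2 h.pg (h.YS hw).1
    obtain ⟨v, hv, v2, v1⟩ := exists_inv hk w1
    exact h.eY ((uniq (zpowers_le.2 hw' hv) (q2 ▸ mul_mem (mem_zpowers q) (mem_zpowers q)) v2 h.e2
      h.e1).resolve_left v1 ▸ zpowers_le.2 hw hv)
  · have k : ∀ s ∈ T ⊓ A, s ∈ W → s ∈ K := fun s hs hW => (h.sw s hs hW).elim
      (fun e' => zpowers_le.2 hy e') fun e' =>
        (K.mul_mem_cancel_right (q2 ▸ K.mul_mem hK hK)).1 (zpowers_le.2 hy e')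
    exact fun s hs => (em _).elim (k s hs) fun e' =>
      (K.mul_mem_cancel_right hK).1 (k _ (mul_mem hs hq) (h.tw s hs.1 q hq.1 e' qW))

theorem ne (hg : g ∈ H) : g * e * g⁻¹ ≠ z := fun h1 => by
  by_cases h2 : g ∈ A
  · exact h.one h2 h1
  · refine h.one (h.ext g hg h2) ?_
    rw [← h.cz' h.tT, ← h1]; group

theorem ne' (hg : g ∈ H) : g * z * g⁻¹ ≠ e ∧ g * z * g⁻¹ ≠ e * z :=
  ⟨fun e' => h.ne (H.inv_mem hg) (by rw [← e']; group), fun e' =>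
    h.ne (H.mul_mem (H.inv_mem hg) (h.syl.le h.tT)) (by
      calc _ = g⁻¹ * (t * e * t⁻¹) * g := by group
        _ = _ := by rw [h.te, ← e']; group)⟩

theorem exists_q (hv : v ∈ T ⊓ A) (hW : v ∉ W) (v2 : v * v = 1) (hw : w ∈ zpowers y) :
    ∃ q ∈ T, w = q * q ∧ v * q * v⁻¹ = q⁻¹ ∧ t * q * t⁻¹ = q⁻¹ := by
  obtain ⟨q, hq, e'⟩ := mem_Z2.1 (zpowers_le.2 (h.gn v hv hW) hw)
  have vi := inv_eq_of_mul_eq_one_right v2
  refine ⟨q, zpowers_le.2 (T.mul_mem h.tT hv.1) hq, e', conj_inv_of ?_ hq, conj_inv_of ?_ hq⟩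
  · rw [mul_inv_rev, h.ti, vi, mul_assoc, mul_assoc, v2, mul_one]
  · rw [mul_inv_rev, h.ti, vi, ← mul_assoc, h.t2, one_mul]

theorem invY (hv : v ∈ T ⊓ A) (hW : v ∉ W) (v2 : v * v = 1) (hw : w ∈ zpowers y) :
    v * w * v⁻¹ = w⁻¹ ∧ t * w * t⁻¹ = w⁻¹ := by
  obtain ⟨q, -, rfl, h1, h2⟩ := h.exists_q hv hW v2 hw
  rw [← conj_mul', ← conj_mul', h1, h2, mul_inv_rev]
  exact ⟨rfl, rfl⟩

theorem exists_M (hv : v ∈ T ⊓ A) (hW : v ∉ W) (v2 : v * v = 1) :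
    ∃ M : Subgroup G, (∀ g, g ∈ M ↔ g ∈ zpowers y ∨ v * g ∈ zpowers y) ∧
      ∀ a ∈ T ⊓ A, ∀ b ∈ T ⊓ A, a ∉ M → b ∉ M → a * b ∈ M := by
  obtain ⟨M, hM⟩ := exists_ext (h.ny hv.1) (v2 ▸ one_mem _)
  have k : ∀ a ∈ T ⊓ A, a ∉ M → a * e ∈ M := fun a ha h1 => by
    rw [hM, not_or] at h1
    by_cases h2 : a ∈ W
    · exact (hM _).2 (Or.inl ((h.sw a ha h2).resolve_left h1.1))
    · exact (hM _).2 (Or.inr (by
        rw [← mul_assoc]
        exact (h.sw _ (mul_mem hv ha) (h.tw v hv.1 a ha.1 hW h2)).resolve_left h1.2))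
  exact ⟨M, hM, fun a ha b hb h1 h2 =>
    h.e_mul ((hM z).2 (Or.inl h.zY)) hb.1 (k a ha h1) (k b hb h2)⟩

theorem zw (hg : g ∈ H) (h1 : g * z * g⁻¹ ∈ T ⊓ A) : g * z * g⁻¹ = z := by
  have f2 : g * z * g⁻¹ * (g * z * g⁻¹) = 1 := by rw [conj_mul', h.z2]; group
  by_cases hW : g * z * g⁻¹ ∈ W
  · rcases h.invW h1 hW f2 with e' | e' | e' | e'
    exacts [absurd (conj_eq_one_iff.1 e') h.z1, e', absurd e' (h.ne' hg).1, absurd e' (h.ne' hg).2]
  obtain ⟨M, hM, h2⟩ := h.exists_M h1 hW f2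
  obtain ⟨a, ha, -, h3⟩ := h.tr1 h2 h.eS.2 h.e2
  rcases (hM _).1 h3 with h4 | h4
  · exact absurd (h.inv_eq' h.zY h4) (h.one ha)
  obtain ⟨q, hq, e1, e2, -⟩ := h.exists_q h1 hW f2 h4
  refine absurd ?_ (h.ne (H.mul_mem (H.inv_mem hg) (H.mul_mem (h.syl.le hq) (h.le ha))))
  have e3 : ∀ f k : G, f * f = 1 → f * k = q * q → f * q * f⁻¹ = q⁻¹ → q * k * q⁻¹ = f :=
    fun f k e1 e2 e3 => by
      calc q * k * q⁻¹ = q * (f * f * k) * q⁻¹ := by rw [e1, one_mul]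
        _ = q * (f * q * f⁻¹) * f := by rw [mul_assoc f, e2]; group
        _ = f := by rw [e3]; group
  calc _ = g⁻¹ * (q * (a * e * a⁻¹) * q⁻¹) * g := by group
    _ = z := by rw [e3 _ _ f2 e1 e2]; group

theorem sqi (hj : j ∈ T) (j2 : j * j = 1) (h1 : ∀ w ∈ zpowers y, j * w * j⁻¹ = w⁻¹)
    (hp : j * p ∈ T ⊓ A) (hW : j * p ∈ W) : p * p ∈ zpowers y := by
  have k : ∀ w ∈ zpowers y, j * w * (j * w) = 1 := fun w hw => by
    calc _ = j * w * j⁻¹ * (j * j) * w := by group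
      _ = _ := by rw [h1 w hw, j2]; group
  have e1 : p = j * (j * p) := by rw [← mul_assoc, j2, one_mul]
  rcases h.sw _ hp hW with h2 | h2
  · rw [e1, k _ h2]; exact one_mem _
  · have := h.sq_u (T.mul_mem hj (h.YS h2).1) h.eU
    rw [k _ h2, mul_assoc j, h.ee, ← e1, one_mul] at this
    rcases this with e' | e' <;> rw [e']
    exacts [one_mem _, h.zY]

theorem twoa (hv : v ∈ T ⊓ A) (hW : v ∉ W) (v2 : v * v = 1) : v * e * v⁻¹ ≠ e * z := fun h1 => by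
  have rY : r ∉ zpowers y := fun e' => h.z1 (by
    have := (h.invY hv hW v2 e').2
    rw [h.tr', mul_inv_cancel_right] at this
    rw [← h.r2]; exact mul_eq_one_iff_eq_inv.2 this)
  have h2 := (h.sw r h.rS h.rW).resolve_left rY
  have re := h.We h.rS h.rW
  have k1 : ∀ w ∈ zpowers y, w * r = r * w := fun w hw => by
    rw [← h.ee r, ← mul_assoc w, comm hw h2, mul_assoc _ w, h.Ye hw, mul_assoc (r * e)]
  have k2 : ∀ s ∈ T ⊓ A, s ∈ W → s * r = r * s := fun s hs hW => (h.sw s hs hW).elim (k1 s)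
    fun e' => by
      have := k1 _ e'
      rwa [mul_assoc, ← re, ← mul_assoc, ← mul_assoc, mul_right_cancel_iff] at this
  have k3 : v * r = r * v := by
    rw [← mul_inv_eq_iff_eq_mul]
    calc _ = v * (r * e) * v⁻¹ * (v * e * v⁻¹) := by rw [conj_mul', h.ee]
      _ = _ := by
        rw [(h.invY hv hW v2 h2).1, h1, re, mul_inv_rev, h.ei, mul_assoc, ← mul_assoc e, h.e2,
          ← h.r2]; group
  have k4 : ∀ s ∈ T ⊓ A, s * r = r * s := fun s hs => (em _).elim (k2 s hs) fun e' => by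
    have := k2 _ (mul_mem hs hv) (h.tw s hs.1 v hv.1 e' hW)
    rwa [mul_assoc, k3, ← mul_assoc, ← mul_assoc, mul_right_cancel_iff] at this
  have k5 : T ≤ C1 r := fun g hg => mem_C1.2 ((em _).elim (fun e' => k4 g ⟨hg, e'⟩) fun e' => by
    have := k4 _ ⟨T.mul_mem h.tT hg, h.ext g (h.syl.le hg) e'⟩
    rwa [← mul_assoc r, ← h.tr', mul_assoc, mul_assoc, mul_left_cancel_iff] at this)
  obtain ⟨M, hM, h3⟩ := h.exists_M hv hW v2
  obtain ⟨a, ha, -, h4⟩ := h.tr2 h3 h.rS.2 (by rw [h.r2, h.z2]) fun a ha h4 => by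
    rw [h.r2] at h4 ⊢
    rw [h.zw (h.le ha) h4]; exact (hM z).2 (Or.inl h.zY)
  have h5 : a * r * a⁻¹ ∈ zpowers y := ((hM _).1 h4).resolve_right fun e' => h.z1 (by
    have := (h.invY hv hW v2 e').1
    rw [← mul_assoc v v, v2, one_mul, inv_eq_of_mul_eq_one_right v2, mul_inv_rev,
      inv_eq_of_mul_eq_one_right v2, mul_right_cancel_iff, ← mul_eq_one_iff_eq_inv, conj_mul',
      h.r2] at this
    exact conj_eq_one_iff.1 this)
  obtain ⟨q, hq, e1, -⟩ := h.exists_q hv hW v2 h5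
  obtain ⟨m, hm⟩ := pow2 h.pg hq
  obtain ⟨g, -, h6, hp⟩ := move h.syl k5 (H.inv_mem (h.le ha)) (f := q * q) (by rw [← e1]; group)
    (h.syl.le hq) hm (mul_assoc _ _ _).symm
  rw [← conj_mul'] at h6
  generalize g * q * g⁻¹ = p at h6 hp
  refine rY (h6 ▸ ?_)
  by_cases h7 : p ∈ W
  · exact h.sq p h7
  by_cases h8 : p ∈ A
  · exact h.sqi hv.1 v2 (fun w hw => (h.invY hv hW v2 hw).1) (mul_mem hv ⟨hp, h8⟩)
      (h.tw v hv.1 p hp hW h7)
  · exact h.sqi h.tT h.t2 (fun w hw => (h.invY hv hW v2 hw).2)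
      ⟨T.mul_mem h.tT hp, h.ext p (h.syl.le hp) h8⟩ (h.tw t h.tT p hp h.tW h7)

theorem twob (ha : a ∈ A) (hv : a * e * a⁻¹ ∈ T ⊓ A) : a * e * a⁻¹ ∈ W := by
  by_contra hW
  have v2 : a * e * a⁻¹ * (a * e * a⁻¹) = 1 := by rw [conj_mul', h.e2]; group
  have e0 : a⁻¹ * (a * e * a⁻¹) * a⁻¹⁻¹ = e := by group
  generalize a * e * a⁻¹ = v at hv hW v2 e0
  have h1 := h.Se hv hW (mul_inv_eq_iff_eq_mul.1 ((h.ce v hv.1).resolve_right (h.twoa hv hW v2)))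
  obtain ⟨g, hg, h2, h3⟩ := move h.sylS h1 (A.inv_mem ha) e0 h.zS.2 (m := 1)
    (by rw [pow_one, pow_two, h.z2]) (h.cz hv.1).symm
  have h4 := h.zw (h.le hg) h3
  obtain ⟨q, hq, e1⟩ := mem_Z2.1 h.zy
  have h5 : g * q⁻¹ * g⁻¹ * z * (g * q⁻¹ * g⁻¹)⁻¹ = z := by
    calc _ = g * q⁻¹ * g⁻¹ * (g * z * g⁻¹) * (g * q⁻¹ * g⁻¹)⁻¹ := by rw [h4]
      _ = g * z * g⁻¹ := by rw [e1]; group
      _ = z := h4
  have h6 : g * q⁻¹ * g⁻¹ * e * (g * q⁻¹ * g⁻¹)⁻¹ = e * z := by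
    calc _ = g * (v * (v⁻¹ * q⁻¹ * v⁻¹⁻¹) * q) * g⁻¹ := by rw [← h2]; group
      _ = g * v * g⁻¹ * (g * z * g⁻¹) := by
        rw [inv_eq_of_mul_eq_one_right v2, (h.invY hv hW v2 (inv_mem hq)).1, e1]; group
      _ = _ := by rw [h2, h4]
  have h7 : g * q⁻¹ * g⁻¹ ∈ A := A.mul_mem (A.mul_mem hg (A.inv_mem (h.YS hq).2)) (A.inv_mem hg)
  obtain ⟨m, hm⟩ := pow2 h.pg (T.inv_mem (h.YS hq).1)
  have h8 : (g * q⁻¹ * g⁻¹) ^ 2 ^ m = 1 := by rw [conj_pow, hm]; group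
  generalize g * q⁻¹ * g⁻¹ = n at h5 h6 h7 h8
  obtain ⟨c, hc, h9⟩ := (h.sylS.mono (le_inf inf_le_right (inf_le_left.trans h.nU))
    inf_le_left).exists_cj_le (pg_zp h8) (zpowers_le.2 ⟨h7, mem_normalizer_of_cj_le
      (cj_le_iff.2 fun u hu => by
        rcases (h.mem u).1 hu with rfl | rfl | rfl | rfl
        exacts [by simp, h5.symm ▸ hu, h6.symm ▸ mul_mem hu h.zU, by
          rw [← conj_mul', h5, h6]; exact mul_mem hu h.zU])⟩)
  have h10 := h9 (conj_mem_cj.2 (mem_zpowers n))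
  have h11 : c * n * c⁻¹ ∈ Cs U := fun u hu => (h.cu' (mem_C1.1 (h1 h10)) h10.1 hu).symm
  have h12 := mem_normalizer_conj' (mem_Ns_Cs hc.2) h11 e h.eU
  rw [show c⁻¹ * (c * n * c⁻¹) * c = n by group] at h12
  rw [← h12, mul_inv_cancel_right] at h6
  exact h.z1 (by simpa using h6)

theorem false : False := by
  obtain ⟨a, ha, -, h1⟩ := h.tr (M := zpowers y) (fun _ hx _ hy => h.comm2 hx hy) h.eS.2
    (by rw [h.e2, mul_one]) (fun a _ _ => by rw [h.e2, mul_one, mul_inv_cancel]; exact one_mem _)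
    fun a ha b hb h1 h2 h3 h4 => h.e_mul h.zY h2.1
      ((h.sw _ h1 (h.twob ha h1)).resolve_left h3) ((h.sw _ h2 (h.twob hb h2)).resolve_left h4)
  exact h.one ha (h.inv_eq' h.zY h1)

end Be

theorem Fr.false (h : Fr A H T U t r z e) : False := let ⟨_, _, h⟩ := h.exists_be; h.false

end Cfsg.Lib.Semi
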