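import Cfsg.Agent.Semi.Base
import Cfsg.Agent.Rank2.Trans
import Cfsg.Agent.Rank2.Fusion

/-! Involutions of `T` that centralise no four-subgroup of `A`. -/

set_option autoImplicit false
set_option linter.unusedSectionVars false

open scoped commutatorElement

namespace Cfsg.Lib.Semi

open Cfsg Subgroup Cfsg.Lib.Trans Cfsg.Lib.Trans.TJ Cfsg.Lib.Gold Cfsg.Lib.Bau Cfsg.Lib.Bau.Cy

universe u

variable {G : Type u} [Group G] [Finite G] {A H K M N P S T X Z : Subgroup G}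
  {a b c e f g r s t u v w x y z : G}

/-- `t` centralises no four-subgroup of `A`. -/
def NoF (A : Subgroup G) (t : G) : Prop :=
  ∀ a ∈ A, ∀ b ∈ A, a * a = 1 → b * b = 1 → a ≠ 1 → b ≠ 1 → a * b = b * a → t * a = a * t →
    t * b = b * t → a = b

theorem NoF.cj (h : NoF A t) (hg : g ∈ Ns A) : NoF A (g * t * g⁻¹) := by
  intro a ha b hb a2 b2 a1 b1 e ea eb
  have k : ∀ a, g * t * g⁻¹ * a = a * (g * t * g⁻¹) →
      t * (g⁻¹ * a * g⁻¹⁻¹) = g⁻¹ * a * g⁻¹⁻¹ * t := fun a ea => by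
    calc _ = g⁻¹ * (g * t * g⁻¹ * a) * g := by group
      _ = _ := by rw [ea]; group
  have := h _ (mem_normalizer_conj (inv_mem hg) ha) _ (mem_normalizer_conj (inv_mem hg) hb)
    (by rw [conj_mul', a2]; group) (by rw [conj_mul', b2]; group)
    (fun e => a1 (conj_eq_one_iff.1 e)) (fun e => b1 (conj_eq_one_iff.1 e))
    (by rw [conj_mul', conj_mul', e]) (k a ea) (k b eb)
  rwa [mul_left_inj, mul_right_inj] at this

theorem noF_of_rank (h : PRankLE 2 1 K) (h1 : A ⊓ C1 t ≤ K) : NoF A t := by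
  intro a ha b hb a2 b2 a1 b1 e ea eb
  by_contra h2
  exact Rank2.not_pRankLE_one_of_invol (s := (⟨a, h1 ⟨ha, mem_C1.2 ea.symm⟩⟩ : K))
    (t := ⟨b, h1 ⟨hb, mem_C1.2 eb.symm⟩⟩) (Subtype.ext a2) (Subtype.ext b2)
    (fun e => a1 (congrArg Subtype.val e)) (fun e => b1 (congrArg Subtype.val e))
    (fun e => h2 (congrArg Subtype.val e)) (Subtype.ext e) h

theorem pg_two (a2 : a * a = 1) : IsPGroup 2 (zpowers a) :=
  pg_zp (m := 1) (by rw [pow_one, pow_two, a2])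

theorem pg_pair (a2 : a * a = 1) (b2 : b * b = 1) (e : a * b = b * a) :
    IsPGroup 2 (zpowers a ⊔ zpowers b : Subgroup G) :=
  Local.isPGroup_sup' (pg_two a2) (pg_two b2) (zpowers_le.2 (Cs_le_Ns (by
    rw [Cs_zpowers]; exact mem_C1.2 e.symm)))

theorem two_inv (h : IsSylowIn 2 S A) (h1 : ¬ PRankLE 2 1 A) :
    ∃ a ∈ S, ∃ b ∈ S, a * a = 1 ∧ b * b = 1 ∧ a ≠ 1 ∧ b ≠ 1 ∧ a ≠ b := by
  obtain ⟨a, b, a2, b2, a1, b1, e, c⟩ := Rank2.exists_two_invol h1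
  have a2' : (a : G) * a = 1 := congrArg Subtype.val a2
  have b2' : (b : G) * b = 1 := congrArg Subtype.val b2
  obtain ⟨g, -, h2⟩ := h.exists_cj_le (pg_pair a2' b2' (congrArg Subtype.val c.eq))
    (sup_le (zpowers_le.2 a.2) (zpowers_le.2 b.2))
  exact ⟨_, h2 (conj_mem_cj.2 (mem_sup_left (mem_zpowers _))), _,
    h2 (conj_mem_cj.2 (mem_sup_right (mem_zpowers _))), by rw [conj_mul', a2']; group,
    by rw [conj_mul', b2']; group, fun e => a1 (Subtype.ext (conj_eq_one_iff.1 e)),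
    fun e => b1 (Subtype.ext (conj_eq_one_iff.1 e)),
    fun e' => e (Subtype.ext (by simpa using e'))⟩

theorem exists_st (hA : layer A = ⊤) (hP : IsPGroup 2 P) (h : P ≤ Ns A) :
    ∃ T, St A (A ⊔ P) T ∧ P ≤ T := by
  obtain ⟨T, h1, h2⟩ := exists_isSylowIn_ge hP (le_sup_right (a := A))
  have := perfect_map_layer_subtype A
  rw [hA, ← MonoidHom.range_eq_map, range_subtype] at this
  exact ⟨T, ⟨this, le_sup_left, sup_le le_normalizer h, h1⟩, h2⟩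

theorem not_cs (d : DS T z s y) (hs : s ∈ A) (hy : y ∈ A) (h : NoF A u) (hu : u ∈ T ⊓ C1 z)
    (hw : w ∈ zpowers y) : u * (s * w) ≠ s * w * u := fun e => by
  have h1 := zpowers_le.2 hy
  have h2 : s * w ∉ zpowers y := by rw [mul_mem_cancel_right hw]; exact d.uz
  refine h2 (h _ (mul_mem hs (h1 hw)) z (h1 d.r_mem) (d.uw2 hw) d.r2
    (fun e => h2 (e ▸ one_mem _)) d.r1 (d.r_cs _ (mul_mem d.u_del (d.Z_del hw))) e
    (mem_C1.1 hu.2) ▸ d.r_mem)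

theorem not_cs' (d : DS T z s y) (hs : s ∈ A) (hy : y ∈ A) (h : NoF A u) (hu : u ∈ T ⊓ C1 z) :
    u ∉ Cs (Del s y) := fun e =>
  not_cs d hs hy h hu (one_mem _) (e _ (mul_mem d.u_del (one_mem _))).symm

theorem St.klein (h : St A H T) (hu : u ∈ T) (hv : v ∈ T) (u2 : u * u = 1) (v2 : v * v = 1)
    (uv2 : u * v * (u * v) = 1) (h1 : NoF A u) (h2 : NoF A v) (h3 : NoF A (u * v)) :
    PRankLE 2 1 A := by
  by_contra h0
  obtain ⟨a, ha, b, hb, a2, b2, a1, b1, hab⟩ := two_inv h.sylS h0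
  have huv := T.mul_mem hu hv
  have hN : NF (T ⊓ A) T := fun z hz e he z2 e2 z1 zc h4 => by
    by_contra! h5
    have k : ∀ t ∈ T, NoF A t → t * e * t⁻¹ = e * z := fun t ht h6 => (h4 t ht).resolve_left
      fun e' => h5.2 (h6 e he.2 z hz.2 e2 z2 h5.1 z1 (mem_C1.1 (zc he.1))
        (mul_inv_eq_iff_eq_mul.1 e') (mem_C1.1 (zc ht)))
    have h6 := k _ huv h3
    rw [show u * v * e * (u * v)⁻¹ = u * (v * e * v⁻¹) * u⁻¹ by group, k v hv h2, ← conj_mul',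
      k u hu h1, mem_C1.1 (zc hu), mul_inv_cancel_right, mul_assoc, z2, mul_right_inj] at h6
    exact z1 h6.symm
  obtain ⟨z, s, y, d, hs, hy, zc, -, -⟩ := h.ds hN ha hb a2 b2 a1 b1 hab
  have k : ∀ t ∈ T, t * t = 1 → NoF A t → ¬ Ev s y t := fun t ht t2 h4 h5 => by
    obtain ⟨w, hw, b, hb, -, e⟩ := d.even ⟨ht, zc ht⟩ t2 (not_cs' d hs hy h4 ⟨ht, zc ht⟩) h5
    refine not_cs d hs hy h4 ⟨ht, zc ht⟩ hw ?_
    rw [e, ← mul_assoc (s * w), hb.2 _ (mul_mem d.u_del (d.Z_del hw))]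
  exact k _ huv uv2 h3 ((d.ev_mul ⟨hu, zc hu⟩ ⟨hv, zc hv⟩).2
    (iff_of_false (k u hu u2 h1) (k v hv v2 h2)))

theorem St.not_nf (h : St A H T) (h0 : ¬ PRankLE 2 1 A) (ht : t ∈ T) (t2 : t * t = 1)
    (h1 : NoF A t) (hr : r ∈ T ⊓ A) (r2 : r * r ≠ 1) (r4 : r * r * (r * r) = 1)
    (rt : t * r = r * t) : ¬ NF (T ⊓ A) T := fun hN => by
  obtain ⟨a, ha, b, hb, a2, b2, a1, b1, hab⟩ := two_inv h.sylS h0
  obtain ⟨z, s, y, d, hs, hy, zc, h2, h3⟩ := h.ds hN ha hb a2 b2 a1 b1 hab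
  obtain ⟨a, ha, -, h4⟩ := h.tr2 h2 hr.2 r4 fun a _ h4 => h3 _ h4 (by rw [conj_mul', r4]; group)
  have h5 : a * r * a⁻¹ * (a * r * a⁻¹) ≠ 1 := by
    rw [conj_mul']; exact fun e => r2 (conj_eq_one_iff.1 e)
  have h6 : a * r * a⁻¹ * (a * r * a⁻¹) * (a * r * a⁻¹ * (a * r * a⁻¹)) = 1 := by
    rw [conj_mul', conj_mul', r4]; group
  have h7 : a * t * a⁻¹ * (a * r * a⁻¹) = a * r * a⁻¹ * (a * t * a⁻¹) := by
    rw [conj_mul', conj_mul', rt]
  generalize a * r * a⁻¹ = q at h4 h5 h6 h7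
  obtain ⟨w, hw, rfl | rfl⟩ := d.mem_Del.1 h4
  swap
  · exact h5 (d.uw2 hw)
  have h8 := (d.sq (mul_mem hw hw) h6).resolve_left h5
  have h9 : T ≤ Ns (zpowers q) := ns_zp fun k hk => by
    rcases sq_eq (mem_normalizer_conj (d.nz ⟨hk, zc hk⟩) hw) hw d.r_mem d.r2 d.r1 (by
      rw [conj_mul', h8, mem_C1.1 (zc hk), mul_inv_cancel_right]) with e | e <;> rw [e]
    exacts [mem_zpowers q, mul_mem (mem_zpowers q) (h8 ▸ Z2_le (mem_zpowers _))]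
  have t2' : ∀ g : G, g * t * g⁻¹ * (g * t * g⁻¹) = 1 := fun g => by rw [conj_mul', t2]; group
  have hH := h.syl.le ht
  obtain ⟨g, hg, -, h10⟩ := moveP h.syl h9 (pg_two (t2' a)) (zpowers_le.2
    ⟨H.mul_mem (H.mul_mem (h.le ha) hH) (H.inv_mem (h.le ha)), by
      rw [SetLike.mem_coe, Cs_zpowers]; exact mem_C1.2 h7⟩)
  have h11 := h10 (conj_mem_cj.2 (mem_zpowers _))
  rw [show g * (a * t * a⁻¹) * g⁻¹ = g * a * t * (g * a)⁻¹ by group] at h11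
  exact not_cs' d hs hy (h1.cj (h.nm (mul_mem hg (h.le ha)))) ⟨h11.1, zc h11.1⟩
    (d.of_w ⟨h11.1, zc h11.1⟩ (t2' _) hw h5 (Cs_zpowers q ▸ h11.2))

end Cfsg.Lib.Semi
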