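import Cfsg.Agent.Bau.Ds2
import Cfsg.Agent.Local.NormalFour
import Cfsg.Agent.Trans.TransferTools

/-! A perfect normal subgroup `A` of `H` and a Sylow 2-subgroup `T` of `H`: transfer, and the case
that `T ⊓ A` contains no four-subgroup normal in `T`. -/

set_option autoImplicit false
set_option linter.unusedSectionVars false

open scoped commutatorElement

namespace Cfsg.Lib.Semi

open Cfsg Subgroup Cfsg.Lib.Trans Cfsg.Lib.Trans.TJ Cfsg.Lib.Gold Cfsg.Lib.Bau Cfsg.Lib.Bau.Cy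

universe u

variable {G : Type u} [Group G] [Finite G] {A H K M N P S T X Z : Subgroup G}
  {a b c e f g r s t w x y z : G}

theorem pow2 (hT : IsPGroup 2 T) (hs : s ∈ T) : ∃ m : ℕ, s ^ 2 ^ m = 1 :=
  let ⟨m, hm⟩ := hT ⟨s, hs⟩; ⟨m, congrArg Subtype.val hm⟩

theorem nil (hT : IsPGroup 2 T) (h1 : N ≤ T) (h2 : T ≤ Ns N) (h : ¬ N ≤ M) :
    ∃ x ∈ N, x ∉ M ∧ ∀ t ∈ T, t * x * t⁻¹ * x⁻¹ ∈ M := by
  haveI := hT.isNilpotent
  haveI : (N.subgroupOf T).Normal := ⟨fun n hn g => mem_normalizer_conj (T := N) (h2 g.2) hn⟩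
  obtain ⟨x, hx, h3, h4⟩ := Local.exists_mem_not_mem_conj_mul_inv_mem (M.subgroupOf T)
    (N.subgroupOf T) fun h3 => h fun n hn => @h3 ⟨n, h1 hn⟩ hn
  exact ⟨x, hx, h3, fun t ht => h4 ⟨t, ht⟩⟩

theorem pg_zp {m : ℕ} (h : w ^ 2 ^ m = 1) : IsPGroup 2 (zpowers w) := by
  rintro ⟨_, i, rfl⟩
  exact ⟨m, Subtype.ext (by
    show (w ^ i) ^ 2 ^ m = 1
    rw [← zpow_natCast, ← zpow_mul, mul_comm, zpow_mul, zpow_natCast, h, one_zpow])⟩

theorem move (hT : IsSylowIn 2 T K) (hc : T ≤ C1 c) (ha : a ∈ K) (e : a * f * a⁻¹ = c)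
    (hw : w ∈ K) {m : ℕ} (h2 : w ^ 2 ^ m = 1) (h1 : w * f = f * w) :
    ∃ g ∈ K, g * f * g⁻¹ = c ∧ g * w * g⁻¹ ∈ T := by
  obtain ⟨k, hk, h3⟩ := (hT.mono (le_inf hT.le hc) inf_le_left).exists_cj_le
    (Q := zpowers (a * w * a⁻¹)) (pg_zp (m := m) (by rw [conj_pow, h2]; group))
    (zpowers_le.2 ⟨K.mul_mem (K.mul_mem ha hw) (K.inv_mem ha), mem_C1.2 (by
      rw [← e, conj_mul', conj_mul', h1])⟩)
  refine ⟨k * a, mul_mem hk.1 ha, ?_, ?_⟩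
  · calc k * a * f * (k * a)⁻¹ = k * (a * f * a⁻¹) * k⁻¹ := by group
      _ = c := by rw [e, mem_C1.1 hk.2]; group
  · simpa [mul_assoc] using h3 (conj_mem_cj.2 (mem_zpowers _))

theorem moveP (hT : IsSylowIn 2 T K) (hZ : T ≤ Ns Z) (hP : IsPGroup 2 P) (h1 : P ≤ K ⊓ Cs Z) :
    ∃ g ∈ K, g ∈ Ns Z ∧ cj g P ≤ T ⊓ Cs Z := by
  obtain ⟨k, hk, h3⟩ := (hT.mono (le_inf hT.le hZ) inf_le_left).exists_cj_le hP
    (h1.trans (inf_le_inf_left _ Cs_le_Ns))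
  exact ⟨k, hk.1, hk.2, le_inf h3 (cj_le_iff.2 fun p hp =>
    mem_normalizer_conj (mem_Ns_Cs hk.2) (h1 hp).2)⟩

/-- the setting. -/
structure St (A H T : Subgroup G) : Prop where
  perf : ⁅A, A⁆ = A
  le : A ≤ H
  nm : H ≤ Ns A
  syl : IsSylowIn 2 T H

theorem St.sylS (h : St A H T) : IsSylowIn 2 (T ⊓ A) A := h.syl.inf_normal_of_le h.nm h.le

theorem St.pg (h : St A H T) : IsPGroup 2 T := h.syl.isPGroup

theorem St.cjS (h : St A H T) (ht : t ∈ T) (hs : s ∈ T ⊓ A) : t * s * t⁻¹ ∈ T ⊓ A :=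
  ⟨T.mul_mem (T.mul_mem ht hs.1) (T.inv_mem ht), mem_normalizer_conj (h.nm (h.syl.le ht)) hs.2⟩

theorem St.ns (h : St A H T) : T ≤ Ns (T ⊓ A) := le_Ns_inf le_normalizer (h.syl.le.trans h.nm)

theorem St.tr (h : St A H T) (hab : ∀ x ∈ T ⊓ A, ∀ y ∈ T ⊓ A, ⁅x, y⁆ ∈ M) (hy : y ∈ A)
    (h4 : y * y * (y * y) = 1)
    (h1 : ∀ a ∈ A, a * (y * y) * a⁻¹ ∈ T ⊓ A → a * (y * y) * a⁻¹ ∈ M)
    (ht : ∀ a ∈ A, ∀ b ∈ A, a * y * a⁻¹ ∈ T ⊓ A → b * y * b⁻¹ ∈ T ⊓ A → a * y * a⁻¹ ∉ M →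
      b * y * b⁻¹ ∉ M → a * y * a⁻¹ * (b * y * b⁻¹) ∈ M) :
    ∃ a ∈ A, a * y * a⁻¹ ∈ T ⊓ A ∧ a * y * a⁻¹ ∈ M := by
  have h5 : (⟨y, hy⟩ : A) ^ 2 ^ 2 = 1 := Subtype.ext (by
    rw [pow_two 2, pow_mul, pow_two, pow_two]; exact h4)
  have h6 := orderOf_dvd_of_pow_eq_one h5
  obtain ⟨a, h7, h8, -⟩ := thompson_transfer_subgroup (H := (T ⊓ A).subgroupOf A)
    (T := M.subgroupOf A) h.sylS.not_dvd (fun x hx y hy => hab x hx y hy)
    (fun x hx => let ⟨m, hm⟩ := pow2 h.pg hx.1; ⟨m, by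
      show (x : G) ^ 2 ^ m ∈ M
      rw [show (x : G) ^ 2 ^ m = 1 from hm]; exact one_mem _⟩) ⟨y, hy⟩
    (let ⟨k, _, hk⟩ := (Nat.dvd_prime_pow Nat.prime_two).1 h6; ⟨k, hk⟩)
    (fun m hm m1 a ha => by
      obtain ⟨k, hk, rfl⟩ := (Nat.dvd_prime_pow Nat.prime_two).1 (hm.trans h6)
      interval_cases k
      · exact absurd rfl m1
      · have := h1 a⁻¹ (A.inv_mem a.2)
        rw [inv_inv, ← pow_two] at this
        exact this ha
      · rw [h5, mul_one, inv_mul_cancel]; exact one_mem _)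
    (fun a b ha hb ha' hb' => by
      have := ht a⁻¹ (A.inv_mem a.2) b⁻¹ (A.inv_mem b.2)
      simp only [inv_inv] at this
      exact this ha hb ha' hb')
    (mem_sup_left (by
      rw [← mem_map_iff_mem A.subtype_injective, map_subtype_commutator, h.perf]; exact hy))
    ⊥ IsPGroup.of_bot (by simp)
  exact ⟨a⁻¹, A.inv_mem a.2, by rw [inv_inv]; exact h7, by rw [inv_inv]; exact h8⟩

theorem conj_of_two (hM : ∀ a ∈ S, ∀ b ∈ S, a ∉ M → b ∉ M → a * b ∈ M) (hx : x ∈ S) (hy : y ∈ S)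
    (h : y ∈ M) : x * y * x⁻¹ ∈ M := by
  by_cases h1 : x ∈ M
  · exact mul_mem (mul_mem h1 h) (inv_mem h1)
  · exact hM _ (mul_mem hx hy) _ (inv_mem hx) (by rwa [mul_mem_cancel_right h])
      (by rwa [inv_mem_iff])

theorem St.tr2 (h : St A H T) (hM : ∀ a ∈ T ⊓ A, ∀ b ∈ T ⊓ A, a ∉ M → b ∉ M → a * b ∈ M)
    (hy : y ∈ A) (h4 : y * y * (y * y) = 1)
    (h1 : ∀ a ∈ A, a * (y * y) * a⁻¹ ∈ T ⊓ A → a * (y * y) * a⁻¹ ∈ M) :
    ∃ a ∈ A, a * y * a⁻¹ ∈ T ⊓ A ∧ a * y * a⁻¹ ∈ M := by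
  refine h.tr (fun x hx y hy => ?_) hy h4 h1 fun a _ b _ ha hb => hM _ ha _ hb
  by_cases h2 : y ∈ M
  · exact mul_mem (conj_of_two hM hx hy h2) (inv_mem h2)
  · by_cases h3 : x ∈ M
    · rw [commutatorElement_def, mul_assoc, mul_assoc, ← mul_assoc y]
      exact mul_mem h3 (conj_of_two hM hy (inv_mem hx) (inv_mem h3))
    · rw [commutatorElement_def, mul_assoc]
      exact mul_mem (hM _ hx _ hy h3 h2)
        (hM _ (inv_mem hx) _ (inv_mem hy) (by rwa [inv_mem_iff]) (by rwa [inv_mem_iff]))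

theorem St.tr1 (h : St A H T) (hM : ∀ a ∈ T ⊓ A, ∀ b ∈ T ⊓ A, a ∉ M → b ∉ M → a * b ∈ M)
    (hy : y ∈ A) (h2 : y * y = 1) : ∃ a ∈ A, a * y * a⁻¹ ∈ T ⊓ A ∧ a * y * a⁻¹ ∈ M :=
  h.tr2 hM hy (by rw [h2, mul_one]) fun a _ _ => by
    rw [h2, mul_one, mul_inv_cancel]; exact one_mem _

/-- no four-subgroup of `S` is normal in `T`. -/
def NF (S T : Subgroup G) : Prop :=
  ∀ z ∈ S, ∀ e ∈ S, z * z = 1 → e * e = 1 → z ≠ 1 → T ≤ C1 z →
    (∀ t ∈ T, t * e * t⁻¹ = e ∨ t * e * t⁻¹ = e * z) → e = 1 ∨ e = z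

theorem mem_zp (hz : z * z = 1) : w ∈ zpowers z ↔ w = 1 ∨ w = z := by
  refine ⟨fun h => ?_, ?_⟩
  · by_cases z1 : z = 1
    · rw [z1, zpowers_one_eq_bot, mem_bot] at h; exact Or.inl h
    · refine uniq h (mem_zpowers z) ?_ hz z1
      have := sq_mem h
      rwa [Z2, hz, zpowers_one_eq_bot, mem_bot] at this
  · rintro (rfl | rfl)
    exacts [one_mem _, mem_zpowers _]

theorem exists_cyc (hT : IsPGroup 2 T) (hS : S ≤ T) (hn : T ≤ Ns S) (h : NF S T) (hs : s ∈ S)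
    (s1 : s ≠ 1) : ∃ x ∈ S, ∃ z ∈ zpowers x, z * z = 1 ∧ z ≠ 1 ∧ T ≤ C1 z ∧
      T ≤ Ns (zpowers x) ∧ ∀ c ∈ S, c * x = x * c → c ∈ zpowers x := by
  obtain ⟨X, ⟨h1, h2, h3⟩, hmax⟩ := WellFounded.has_min (wellFounded_gt (α := Subgroup G))
    {X : Subgroup G | X ≤ S ∧ T ≤ Ns X ∧ X ≤ Cs X} ⟨⊥, bot_le, fun t _ => mem_normalizer_of_cj_le (by simp [cj]), bot_le⟩
  have h4 : S ⊓ Cs X ≤ X := by
    by_contra h4
    obtain ⟨x, hx, h5, h6⟩ := nil hT (inf_le_left.trans hS) (le_Ns_inf hn (le_Ns_Cs h2)) h4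
    have hx' : x ∈ X ⊔ zpowers x := mem_sup_right (mem_zpowers x)
    refine hmax (X ⊔ zpowers x) ⟨sup_le h1 (zpowers_le.2 hx.1), fun t ht =>
      mem_normalizer_of_cj_le ?_, ?_⟩ (lt_of_le_of_ne le_sup_left fun e => h5 (e ▸ hx'))
    · rw [cj_sup, mem_Ns_iff.1 (h2 ht), cj_zpowers]
      exact sup_le le_sup_left (zpowers_le.2 (by
        simpa using mul_mem (mem_sup_left (h6 t ht)) hx'))
    · have h7 : zpowers x ≤ Cs X := zpowers_le.2 hx.2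
      refine sup_le (le_Cs_comm.1 (sup_le h3 h7)) (le_Cs_comm.1 (sup_le (le_Cs_comm.1 h7) ?_))
      rw [Cs_zpowers, zpowers_le]; exact mem_C1.2 rfl
  have hΩ : omegaOne 2 X ≤ T := (omegaOne_le X).trans (h1.trans hS)
  have hΩn : T ≤ Ns (omegaOne 2 X) := h2.trans (normalizer_le_normalizer_omegaOne X)
  have mΩ : ∀ v, v ∈ omegaOne 2 X ↔ v ∈ X ∧ v * v = 1 := fun v => by
    rw [mem_omegaOne_iff h3, pow_two]
  have hX : X ≠ ⊥ := fun e => s1 (by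
    have := h4 ⟨hs, by rw [e]; simp [mem_centralizer_iff]⟩
    rwa [e, mem_bot] at this)
  obtain ⟨z, hz, z1, h5⟩ := nil (M := ⊥) hT hΩ hΩn
    (by rw [le_bot_iff]; exact omegaOne_ne_bot (hT.to_le (h1.trans hS)) hX)
  rw [mem_bot] at z1
  have zc : T ≤ C1 z := fun t ht => mem_C1.2 (by
    have := mem_bot.1 (h5 t ht)
    rwa [mul_inv_eq_one, mul_inv_eq_iff_eq_mul] at this)
  obtain ⟨zX, z2⟩ := (mΩ z).1 hz
  have h6 : omegaOne 2 X ≤ zpowers z := by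
    by_contra h6
    obtain ⟨e, he, e1, h7⟩ := nil hT hΩ hΩn h6
    obtain ⟨eX, e2⟩ := (mΩ e).1 he
    refine e1 ((mem_zp z2).2 (h z (h1 zX) e (h1 eX) z2 e2 z1 zc fun t ht => ?_))
    refine ((mem_zp z2).1 (h7 t ht)).imp (fun h8 => mul_inv_eq_one.1 h8) fun h8 => ?_
    rw [mul_inv_eq_iff_eq_mul] at h8
    rw [h8, h3 zX e eX]
  obtain ⟨x, hx, h7⟩ := Local.exists_zpowers_of_unique_involution hT (X.subgroupOf T)
    (fun a ha b hb => Subtype.ext (h3 hb a ha)) fun u hu v hv u2 v2 u1 v1 => Subtype.ext (by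
      rw [((mem_zp z2).1 (h6 ((mΩ u).2 ⟨hu, congrArg Subtype.val u2⟩))).resolve_left
        fun e => u1 (Subtype.ext e), ((mem_zp z2).1 (h6 ((mΩ v).2
          ⟨hv, congrArg Subtype.val v2⟩))).resolve_left fun e => v1 (Subtype.ext e)])
  have e : X = zpowers (x : G) := le_antisymm (fun b hb => by
    obtain ⟨i, hi⟩ := h7 ⟨b, hS (h1 hb)⟩ hb
    exact ⟨i, congrArg Subtype.val hi⟩) (zpowers_le.2 hx)
  refine ⟨x, h1 hx, z, e ▸ zX, z2, z1, zc, e ▸ h2, fun c hc h8 => e ▸ h4 ⟨hc, ?_⟩⟩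
  rw [e, Cs_zpowers]; exact mem_C1.2 h8

theorem exists_inv {m : ℕ} (h : w ^ 2 ^ m = 1) (h1 : w ≠ 1) :
    ∃ v ∈ zpowers w, v * v = 1 ∧ v ≠ 1 := by
  induction m generalizing w with
  | zero => exact absurd (by simpa using h) h1
  | succ m ih =>
    by_cases h2 : w * w = 1
    · exact ⟨w, mem_zpowers w, h2, h1⟩
    · obtain ⟨v, hv, h3⟩ := ih (w := w * w) (by rw [← pow_two, ← pow_mul, ← pow_succ', h]) h2
      exact ⟨v, Z2_le hv, h3⟩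

theorem ns_zp (h : ∀ t ∈ T, t * x * t⁻¹ ∈ zpowers x) : T ≤ Ns (zpowers x) := fun t ht =>
  mem_normalizer_of_cj_le (by rw [cj_zpowers, zpowers_le]; exact h t ht)

theorem sq_eq (hw : a ∈ zpowers x) (hv : b ∈ zpowers x) (hz : z ∈ zpowers x) (z2 : z * z = 1)
    (z1 : z ≠ 1) (e : a * a = b * b) : a = b ∨ a = b * z := by
  have h1 := uniq (mul_mem (inv_mem hv) hw) hz (by
    calc b⁻¹ * a * (b⁻¹ * a) = b⁻¹ * (a * b⁻¹) * a := by group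
      _ = b⁻¹ * b⁻¹ * (a * a) := by rw [comm hw (inv_mem hv)]; group
      _ = 1 := by rw [e]; group) z2 z1
  exact h1.imp (fun h => (inv_mul_eq_one.1 h).symm) fun h => inv_mul_eq_iff_eq_mul.1 h

/-- a self-centralising cyclic subgroup of `S` normal in `T`. -/
structure Cyc (S T : Subgroup G) (x z : G) : Prop where
  pg : IsPGroup 2 T
  le : S ≤ T
  ns : T ≤ Ns S
  xS : x ∈ S
  zx : z ∈ zpowers x
  z2 : z * z = 1
  z1 : z ≠ 1
  zc : T ≤ C1 z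
  nx : T ≤ Ns (zpowers x)
  cen : ∀ c ∈ S, c * x = x * c → c ∈ zpowers x
  x2 : x * x ≠ 1

namespace Cyc

theorem Xle (h : Cyc S T x z) : zpowers x ≤ S := zpowers_le.2 h.xS

theorem cjX (h : Cyc S T x z) (ht : t ∈ T) (hw : w ∈ zpowers x) : t * w * t⁻¹ ∈ zpowers x :=
  mem_normalizer_conj (h.nx ht) hw

theorem n2 (h : Cyc S T x z) : T ≤ Ns (Z2 x) :=
  ns_zp fun _ ht => ns_Z2 (h.nx ht) (mem_zpowers _)

theorem nx2 (h : Cyc S T x z) : x ∉ Z2 x :=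
  let ⟨_, hm⟩ := pow2 h.pg (h.le h.xS); not_mem_Z2 hm fun e => h.x2 (by rw [e, mul_one])

theorem nx4 (h : Cyc S T x z) : x * x ∉ Z2 (x * x) :=
  let ⟨_, hm⟩ := pow2 h.pg (h.le (mul_mem h.xS h.xS)); not_mem_Z2 hm h.x2

theorem gen1 (h : Cyc S T x z) (hw : w ∈ zpowers x) (h1 : w ∉ Z2 x) : x ∈ zpowers w :=
  let ⟨_, hm⟩ := pow2 h.pg (h.le h.xS); gen hm hw h1

theorem gen2 (h : Cyc S T x z) (hw : w ∈ Z2 x) (h1 : w ∉ Z2 (x * x)) : x * x ∈ zpowers w :=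
  let ⟨_, hm⟩ := pow2 h.pg (h.le (mul_mem h.xS h.xS)); gen hm hw h1

theorem zmem (h : Cyc S T x z) (hw : w ∈ zpowers x) (h1 : w ≠ 1) : z ∈ zpowers w := by
  obtain ⟨m, hm⟩ := pow2 h.pg (h.le (h.Xle hw))
  obtain ⟨v, hv, v2, v1⟩ := exists_inv hm h1
  exact ((uniq (zpowers_le.2 hw hv) h.zx v2 h.z2 h.z1).resolve_left v1) ▸ hv

theorem m2 (h : Cyc S T x z) (ht : t ∈ T) : x⁻¹ * (t * x * t⁻¹) ∈ Z2 x := by
  rw [mul_iff (inv_mem (mem_zpowers x)) (h.cjX ht (mem_zpowers x)), inv_mem_iff,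
    conj_iff (h.nx ht)]

theorem pl (h : Cyc S T x z) (ha : a ∈ T) (hb : b ∈ T) :
    x⁻¹ * (a * b * x * (a * b)⁻¹) ∈ Z2 (x * x) ↔
      (x⁻¹ * (a * x * a⁻¹) ∈ Z2 (x * x) ↔ x⁻¹ * (b * x * b⁻¹) ∈ Z2 (x * x)) := by
  rw [show x⁻¹ * (a * b * x * (a * b)⁻¹) =
    x⁻¹ * (a * x * a⁻¹) * (a * (x⁻¹ * (b * x * b⁻¹)) * a⁻¹) by group,
    mul_iff (h.m2 ha) (ns_Z2 (h.nx ha) (h.m2 hb)), conj_iff (h.n2 ha)]

theorem noE (h : Cyc S T x z) (hN : NF S T) (he : e ∈ S) (e2 : e * e = 1)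
    (h1 : e * x * e⁻¹ = x * z) (hz : z ∈ Z2 (x * x)) : False := by
  have hx := mem_zpowers x
  have h2 : ∀ w ∈ Z2 x, e * w * e⁻¹ = w := fun w hw => conj_of (by
    rw [← conj_mul', h1, mul_assoc, ← mul_assoc z, comm h.zx hx, mul_assoc, h.z2]; group) hw
  have h3 : ∀ w ∈ zpowers x, w ∉ Z2 x → e * w * e⁻¹ = w * z := fun w hw h3 => by
    obtain ⟨v, hv, rfl⟩ := (cases hw).resolve_left h3
    rw [← conj_mul', h1, h2 v hv, mul_assoc, comm h.zx (Z2_le hv), mul_assoc]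
  obtain ⟨y, hy, e3⟩ := mem_Z2.1 hz
  have h4 := hN z (h.Xle h.zx) e he h.z2 e2 h.z1 h.zc fun t ht => by
    have h5 := h3 _ (h.cjX (inv_mem ht) hx) (by rw [conj_iff (h.nx (inv_mem ht))]; exact h.nx2)
    have h6 : t * e * t⁻¹ * x * (t * e * t⁻¹)⁻¹ = x * z := by
      calc _ = t * (e * (t⁻¹ * x * t⁻¹⁻¹) * e⁻¹) * t⁻¹ := by group
        _ = x * (t * z * t⁻¹) := by rw [h5]; group
        _ = _ := by rw [mem_C1.1 (h.zc ht)]; group
    have h7 := h.cen (e⁻¹ * (t * e * t⁻¹))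
      (mul_mem (inv_mem he) (mem_normalizer_conj (h.ns ht) he)) (by
        calc _ = e⁻¹ * (t * e * t⁻¹ * x * (t * e * t⁻¹)⁻¹) * (t * e * t⁻¹) := by group
          _ = _ := by rw [h6, ← h1]; group)
    generalize hu : e⁻¹ * (t * e * t⁻¹) = u at h7
    have h8 : t * e * t⁻¹ = e * u := by rw [← hu]; group
    have h9 : e * u * e⁻¹ * u = 1 := by
      rw [inv_eq_of_mul_eq_one_right e2, mul_assoc, ← h8, conj_mul', e2]; group
    rw [h8]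
    by_cases h10 : u ∈ Z2 x
    · rw [h2 u h10] at h9
      rcases uniq h7 h.zx h9 h.z2 h.z1 with rfl | rfl
      exacts [Or.inl (mul_one e), Or.inr rfl]
    · rw [h3 u h7 h10, mul_assoc, comm h.zx h7, ← mul_assoc, ← h.z2, mul_right_cancel_iff,
        e3] at h9
      rcases sq_eq h7 (Z2_le hy) h.zx h.z2 h.z1 h9 with rfl | rfl
      exacts [absurd hy h10, absurd (mul_mem hy (Z2_le hz)) h10]
  refine h.z1 (mul_left_cancel (a := x) ?_)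
  rcases h4 with rfl | rfl
  · rw [← h1]; group
  · rw [← h1, comm h.zx hx]; group

theorem step (h : Cyc S T x z) (hN : NF S T) (hb : b ∈ S) (h1 : b * b ∈ zpowers x)
    (h2 : x⁻¹ * (b * x * b⁻¹) ∈ Z2 (x * x)) : b ∈ zpowers x := by
  by_contra h0
  have hx := mem_zpowers x
  have hx' := h.cjX (h.le hb) hx
  have e0 : x * (b * x * b⁻¹) = x * x * (x⁻¹ * (b * x * b⁻¹)) := by group
  have h3 : b * (x * x) * b⁻¹ = x * x := by
    refine conj_of (z := x * (b * x * b⁻¹)) ?_ (h.gen2 ?_ ?_)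
    · calc _ = b * x * b⁻¹ * (b * b * x * (b * b)⁻¹) := by group
        _ = _ := by rw [comm h1 hx, mul_inv_cancel_right, comm hx' hx]
    · rw [e0]; exact mul_mem (mem_zpowers _) (Z2_le h2)
    · rw [e0, mul_mem_cancel_right h2]; exact h.nx4
  have h4 : b * x * b⁻¹ = x * z := (sq_eq hx' hx h.zx h.z2 h.z1 (by rw [conj_mul', h3])).resolve_left
    fun e => h0 (h.cen b hb (mul_inv_eq_iff_eq_mul.1 e))
  rw [h4, inv_mul_cancel_left] at h2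
  have h5 : b * b ∈ Z2 x := by
    by_contra h5
    exact h0 (h.cen b hb (mul_inv_eq_iff_eq_mul.1 (conj_of (by group) (h.gen1 h1 h5))))
  obtain ⟨v, hv, e1⟩ := mem_Z2.1 h5
  have key : ∀ w ∈ zpowers x, b * w * (b * w) = 1 → False := fun w hw e =>
    h.noE hN (mul_mem hb (h.Xle hw)) e (by
      rw [← h4, mul_assoc b w x, comm hw hx]; group) h2
  have e2 : ∀ w, b * w * (b * w) = b * w * b⁻¹ * (v * v) * w := fun w => by rw [← e1]; group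
  rcases sq_eq (h.cjX (h.le hb) hv) hv h.zx h.z2 h.z1 (by rw [conj_mul', ← e1]; group) with
    e3 | e3
  · refine key v⁻¹ (inv_mem hv) ?_
    rw [e2, ← conj_inv', e3]; group
  · obtain ⟨y, hy, e4⟩ := mem_Z2.1 h2
    have hy' := Z2_le hy
    refine key (v⁻¹ * y) (mul_mem (inv_mem hv) hy') ?_
    rw [e2, ← conj_mul', conj_of h3 hy, ← conj_inv', e3, mul_inv_rev,
      inv_eq_of_mul_eq_one_right h.z2]
    calc _ = z * (v⁻¹ * (y * v) * y) := by group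
      _ = 1 := by rw [comm hy' hv, inv_mul_cancel_left, ← e4, h.z2]

theorem mem_of_pl (h : Cyc S T x z) (hN : NF S T) (ha : a ∈ S)
    (h2 : x⁻¹ * (a * x * a⁻¹) ∈ Z2 (x * x)) : a ∈ zpowers x := by
  obtain ⟨m, hm⟩ := pow2 h.pg (h.le ha)
  induction m generalizing a with
  | zero => rw [pow_zero, pow_one] at hm; rw [hm]; exact one_mem _
  | succ m ih =>
    exact h.step hN ha (ih (mul_mem ha ha) ((h.pl (h.le ha) (h.le ha)).2 Iff.rfl)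
      (by rw [← pow_two, ← pow_mul, ← pow_succ', hm])) h2

theorem pl_of_mem (ha : a ∈ zpowers x) : x⁻¹ * (a * x * a⁻¹) ∈ Z2 (x * x) := by
  rw [comm ha (mem_zpowers x), mul_inv_cancel_right, inv_mul_cancel]; exact one_mem _

theorem two (h : Cyc S T x z) (hN : NF S T) : ∀ a ∈ S, ∀ b ∈ S, a ∉ zpowers x → b ∉ zpowers x →
    a * b ∈ zpowers x := fun _ ha _ hb h1 h2 =>
  h.mem_of_pl hN (mul_mem ha hb) ((h.pl (h.le ha) (h.le hb)).2
    (iff_of_false (fun e => h1 (h.mem_of_pl hN ha e)) fun e => h2 (h.mem_of_pl hN hb e)))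

theorem sq (h : Cyc S T x z) (hN : NF S T) (ht : t ∈ T) (h1 : t * t ∈ S) : t * t ∈ zpowers x :=
  h.mem_of_pl hN h1 ((h.pl ht ht).2 Iff.rfl)

theorem exists_y (h : Cyc S T x z) (hN : NF S T) (hs : s ∈ S) (s2 : s * s = 1)
    (h1 : s ∉ zpowers x) : ∃ y ∈ zpowers x, Z2 x ≤ zpowers y ∧ y * y ≠ 1 ∧ s * y * s⁻¹ = y⁻¹ ∧
      T ≤ Ns (zpowers y) ∧ ∀ c ∈ zpowers x, s * c * s⁻¹ = c⁻¹ → c ∈ zpowers y := by
  have hx := mem_zpowers x
  by_cases h2 : s * x * s⁻¹ = x⁻¹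
  · exact ⟨x, hx, Z2_le, h.x2, h2, h.nx, fun c hc _ => hc⟩
  have hx' := h.cjX (h.le hs) hx
  have h3 : x⁻¹ * (s * x * s⁻¹) ∉ Z2 (x * x) := fun e => h1 (h.mem_of_pl hN hs e)
  refine ⟨x * x, mul_mem hx hx, le_rfl, fun e => h2 ?_, conj_inv_of ?_ (h.gen2 (h.m2 (h.le hs)) h3),
    h.n2, fun c hc e => ?_⟩
  · have := (mul_iff (mem_zpowers (x * x)) (h.m2 (h.le hs))).2 (iff_of_false h.nx4 h3)
    rw [Z2, e, zpowers_one_eq_bot, mem_bot] at this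
    rw [eq_inv_iff_mul_eq_one, comm hx' hx, ← this]; group
  · calc _ = (s * x * s⁻¹)⁻¹ * (s * s * x * (s * s)⁻¹) := by group
      _ = _ := by rw [s2]; group
  · by_contra h4
    exact h2 (conj_inv_of e (h.gen1 hc h4))

end Cyc

theorem St.ds (h : St A H T) (hN : NF (T ⊓ A) T) (ha : a ∈ T ⊓ A) (hb : b ∈ T ⊓ A)
    (a2 : a * a = 1) (b2 : b * b = 1) (a1 : a ≠ 1) (b1 : b ≠ 1) (hab : a ≠ b) :
    ∃ z s y, DS T z s y ∧ s ∈ A ∧ y ∈ A ∧ T ≤ C1 z ∧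
      (∀ a ∈ T ⊓ A, ∀ b ∈ T ⊓ A, a ∉ Del s y → b ∉ Del s y → a * b ∈ Del s y) ∧
      ∀ e ∈ T ⊓ A, e * e = 1 → e ∈ Del s y := by
  obtain ⟨x, xS, z, zx, z2, z1, zc, nx, cen⟩ := exists_cyc h.pg inf_le_left h.ns hN ha a1
  obtain ⟨s, hs, s2, h1⟩ : ∃ s ∈ T ⊓ A, s * s = 1 ∧ s ∉ zpowers x := by
    by_contra! h1
    exact hab (((uniq (h1 a ha a2) zx a2 z2 z1).resolve_left a1).trans
      ((uniq (h1 b hb b2) zx b2 z2 z1).resolve_left b1).symm)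
  have c : Cyc (T ⊓ A) T x z := ⟨h.pg, inf_le_left, h.ns, xS, zx, z2, z1, zc, nx, cen, fun e => by
    refine h1 (cen s hs ?_)
    rcases uniq (mem_zpowers x) zx e z2 z1 with rfl | rfl
    exacts [by group, mem_C1.1 (zc hs.1)]⟩
  obtain ⟨y, yx, h2, y2, h3, h4, h5⟩ := c.exists_y hN hs s2 h1
  have hy := zpowers_le.2 yx
  have zy := c.zmem (mul_mem yx yx) y2
  have si := inv_eq_of_mul_eq_one_right s2
  have h6 : ∀ e ∈ T ⊓ A, e * e = 1 → e ∉ zpowers x → s * e ∈ zpowers y := fun e he e2 e1 =>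
    h5 _ (c.two hN s hs e he h1 e1) (by
      rw [← mul_assoc, s2, one_mul, mul_inv_rev, inv_eq_of_mul_eq_one_right e2])
  have d : DS T z s y := ⟨h.pg, (c.Xle zx).1, hs.1, (c.Xle yx).1, z1, z2, s2,
    (mem_C1.1 (zc hs.1)).symm, comm zx yx, h3, fun e => h1 (hy e),
    let ⟨v, hv, e⟩ := mem_Z2.1 zy; ⟨v, hv, e.symm⟩, inf_le_left.trans h4,
    fun t ht => h6 _ (h.cjS ht.1 hs) (by rw [conj_mul', s2]; group) fun e => h1 (by
      simpa [mul_assoc] using c.cjX (T.inv_mem ht.1) e),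
    fun g hg w hw e e2 => by
      have h7 : s * w ∈ T ⊓ A := mul_mem hs (c.Xle (hy hw))
      have h8 : s * w * (s * w) = 1 := by
        rw [show s * w * (s * w) = s * w * s⁻¹ * w by rw [si]; group, conj_inv_of h3 hw]; group
      have h9 : s * w ∉ zpowers x := by rwa [mul_mem_cancel_right (hy hw)]
      obtain ⟨a, ha, -, h10⟩ := h.tr1 (c.two hN) h7.2 h8
      have h11 := (uniq h10 zx (by rw [conj_mul', h8]; group) z2 z1).resolve_left fun e =>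
        h9 (by rw [conj_eq_one_iff.1 e]; exact one_mem _)
      obtain ⟨m, hm⟩ := pow2 h.pg hg.1
      obtain ⟨k, hk, h12, h13⟩ := move h.syl zc (h.le ha) h11 (h.syl.le hg.1) hm e
      have h14 := c.sq hN h13 ⟨T.mul_mem h13 h13, by
        rw [conj_mul', e2]; exact mem_normalizer_conj (h.nm hk) (c.Xle zx).2⟩
      rw [conj_mul', e2] at h14
      have h15 := (uniq h14 zx (by rw [conj_mul', z2]; group) z2 z1).resolve_left fun e =>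
        z1 (conj_eq_one_iff.1 e)
      have h16 := h15.trans h12.symm
      rw [mul_left_inj, mul_right_inj] at h16
      exact h9 (h16 ▸ zx)⟩
  have h7 : ∀ a ∈ T ⊓ A, a ∉ Del s y → ∃ c ∈ T ⊓ Del s y, ∃ w ∈ zpowers x, w ∉ Z2 x ∧ a = c * w :=
    fun a ha h7 => by
      by_cases h8 : a ∈ zpowers x
      · exact ⟨1, one_mem _, a, h8, fun e => h7 (d.Z_del (h2 e)), (one_mul a).symm⟩
      · have e : a = s * (s * a) := by rw [← mul_assoc, s2, one_mul]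
        exact ⟨s, ⟨hs.1, d.u_del⟩, s * a, c.two hN s hs a ha h1 h8,
          fun e' => h7 (e ▸ mul_mem d.u_del (d.Z_del (h2 e'))), e⟩
  refine ⟨z, s, y, d, hs.2, (c.Xle yx).2, zc, fun a ha b hb h8 h9 => ?_, fun e he e2 => ?_⟩
  · obtain ⟨a', ha', v, hv, v1, rfl⟩ := h7 a ha h8
    obtain ⟨b', hb', w, hw, w1, rfl⟩ := h7 b hb h9
    rw [show a' * v * (b' * w) = a' * b' * (b'⁻¹ * v * b'⁻¹⁻¹ * w) by group]
    refine mul_mem (mul_mem ha'.2 hb'.2) (d.Z_del (h2 ?_))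
    rw [mul_iff (c.cjX (T.inv_mem hb'.1) hv) hw, conj_iff (nx (T.inv_mem hb'.1))]
    exact iff_of_false v1 w1
  · by_cases h8 : e ∈ zpowers x
    · rcases uniq h8 zx e2 z2 z1 with rfl | rfl
      exacts [one_mem _, d.Z_del (Z2_le zy)]
    · rw [show e = s * (s * e) by rw [← mul_assoc, s2, one_mul]]
      exact mul_mem d.u_del (d.Z_del (h6 e he e2 h8))

end Cfsg.Lib.Semi
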