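import Cfsg.Agent.Semi.One
import Cfsg.Agent.S3224

/-! An involution `t` outside `A` with `C_S(t)` cyclic of order 4 and a four-subgroup of `S`
normal in `T`: the structure of `T`. -/

set_option autoImplicit false
set_option linter.unusedSectionVars false

open scoped commutatorElement

namespace Cfsg.Lib.Semi

open Cfsg Subgroup Cfsg.Lib.Trans Cfsg.Lib.Trans.TJ Cfsg.Lib.Gold Cfsg.Lib.Bau Cfsg.Lib.Bau.Cy

universe u

variable {G : Type u} [Group G] [Finite G] {A H K M N P S T U W X Z : Subgroup G}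
  {a b c e f g r s t u v w x y z : G}

theorem quot (hQ : IsPGroup 2 G) (t2 : t * t = 1) (r2 : r * r = 1) (t1 : t ≠ 1) (r1 : r ≠ 1)
    (rt : r ≠ t) (rc : ∀ g, g * r = r * g)
    (hc : ∀ g, g * t = t * g → g = 1 ∨ g = t ∨ g = r ∨ g = r * t) :
    ∃ x, (∀ a b, a ∉ zpowers x → b ∉ zpowers x → a * b ∈ zpowers x) ∧ t ∉ zpowers x ∧
      r ∈ zpowers x := by
  have e1 : r * t * (r * t) = 1 := by rw [mul_assoc, ← mul_assoc t, rc t, mul_assoc r, t2]; simpa
  by_cases hall : ∀ g, g * t = t * g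
  · refine ⟨r, fun a b ha hb => ?_, fun e => ?_, mem_zpowers r⟩
    · have k : ∀ a, a ∉ zpowers r → a * t ∈ zpowers r := fun a ha => by
        rcases hc a (hall a) with rfl | rfl | rfl | rfl
        exacts [absurd (one_mem _) ha, t2 ▸ one_mem _, absurd (mem_zpowers _) ha,
          by rw [mul_assoc, t2, mul_one]; exact mem_zpowers r]
      have := mul_mem (k a ha) (k b hb)
      rwa [hall b, mul_assoc, ← mul_assoc t, t2, one_mul] at this
    · exact ((mem_zp r2).1 e).elim t1 fun e => rt e.symm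
  have h4 : Nat.card (centralizer ({t} : Set G)) = 4 := by
    refine Set.ncard_eq_four.2 ⟨1, t, r, r * t, t1.symm, r1.symm, fun e => rt ?_, rt.symm,
      fun e => r1 (by simpa using e), fun e => t1 (by simpa using e), Set.ext fun g => ?_⟩
    · rw [← mul_one r, ← t2, ← mul_assoc, ← e, one_mul]
    · refine mem_centralizer_singleton_iff.trans ⟨hc g, ?_⟩
      rintro (rfl | rfl | rfl | rfl)
      exacts [by group, rfl, (rc t).symm, by rw [← mul_assoc, rc t]]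
  obtain ⟨x, hx⟩ : ∃ x : G, ∀ a b, a ∉ zpowers x → b ∉ zpowers x → a * b ∈ zpowers x := by
    rcases Agent.S3224.result hQ t (orderOf_eq_prime (by rw [pow_two, t2]) t1) h4 with
      ⟨n, ⟨φ⟩⟩ | ⟨n, -, h1, x, -, h2, -⟩ | h1
    · have k : ∀ a i, φ a = .r i → a ∈ zpowers (φ.symm (.r 1)) := fun a i e => by
        obtain ⟨j, rfl⟩ := ZMod.intCast_surjective i
        exact ⟨j, φ.injective (by simp [e])⟩
      refine ⟨φ.symm (.r 1), fun a b ha hb => ?_⟩
      rcases e : φ a with i | i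
      · exact absurd (k a i e) ha
      rcases e' : φ b with j | j
      · exact absurd (k b j e') hb
      exact k _ (j - i) (by rw [map_mul, e, e', DihedralGroup.sr_mul_sr])
    · have h3 := (zpowers x).index_mul_card
      rw [Nat.card_zpowers, h2, h1, pow_succ', Nat.mul_left_inj (by positivity)] at h3
      exact ⟨x, fun a b ha hb => (mul_mem_iff_of_index_two h3).2 (iff_of_false ha hb)⟩
    · have := eq_top_of_card_eq _ (h4.trans h1.symm)
      exact absurd (fun g => mem_centralizer_singleton_iff.1 (this ▸ mem_top g)) hall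
  have k : x * t ≠ t * x := fun e => hall fun g => by
    have h1 : ∀ w ∈ zpowers x, w * t = t * w := fun w hw =>
      (mul_inv_eq_iff_eq_mul.1 (conj_of (by rw [← e]; group) hw)).symm
    by_cases hg : g ∈ zpowers x
    · exact h1 g hg
    by_cases ht : t ∈ zpowers x
    · have x2 : x * x = 1 := by
        rcases hc x e with rfl | rfl | rfl | rfl
        exacts [mul_one _, t2, r2, e1]
      have h2 := h1 _ (hx g r hg fun hr => rt ((((mem_zp x2).1 hr).resolve_left r1).trans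
        (((mem_zp x2).1 ht).resolve_left t1).symm))
      rwa [mul_assoc, ← rc t, ← mul_assoc, ← mul_assoc, mul_right_cancel_iff] at h2
    · have h2 := h1 _ (hx g t hg ht)
      rwa [← mul_assoc, mul_right_cancel_iff] at h2
  have ht : t ∉ zpowers x := fun e => k (comm (mem_zpowers x) e)
  refine ⟨x, hx, ht, by_contra fun hr => k ?_⟩
  have := comm (mem_zpowers x) (hx r t hr ht)
  rwa [← mul_assoc, rc x, mul_assoc, mul_assoc, mul_left_cancel_iff] at this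

theorem exists_ext (hv : v ∈ Ns N) (h : v * v ∈ N) :
    ∃ M : Subgroup G, ∀ g, g ∈ M ↔ g ∈ N ∨ v * g ∈ N := by
  refine ⟨⟨⟨⟨{g | g ∈ N ∨ v * g ∈ N}, ?_⟩, Or.inl (one_mem N)⟩, ?_⟩, fun _ => Iff.rfl⟩
  · rintro a b (ha | ha) (hb | hb)
    · exact Or.inl (mul_mem ha hb)
    · exact Or.inr (by simpa [mul_assoc] using mul_mem (mem_normalizer_conj hv ha) hb)
    · exact Or.inr (by simpa [mul_assoc] using mul_mem ha hb)
    · exact Or.inl (by
        simpa [mul_assoc] using mul_mem (mul_mem (inv_mem h) (mem_normalizer_conj hv ha)) hb)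
  · rintro a (ha | ha)
    · exact Or.inl (inv_mem ha)
    · exact Or.inr (by
        simpa [mul_assoc] using mul_mem (mem_normalizer_conj hv (inv_mem ha)) h)

theorem kill (hP : IsSylowIn 2 P K) (hc : P ≤ C1 z) (ha : a ∈ K) (e : a * f * a⁻¹ = z)
    (hw : w ∈ K) (w2 : w * w = z) (z2 : z * z = 1) (h1 : w * f = f * w)
    (h2 : ∀ g ∈ K, ∀ p ∈ P, p * p = g * z * g⁻¹ → p * p = z) : f = z := by
  obtain ⟨g, hg, h3, h4⟩ := move hP hc ha e hw (m := 2) (by
    rw [pow_two 2, pow_mul, pow_two, pow_two, w2, z2]) h1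
  have h5 := h2 g hg _ h4 (by rw [conj_mul', w2])
  rw [conj_mul', w2] at h5
  simpa using h3.trans h5.symm

/-- the configuration. -/
structure Fr (A H T U : Subgroup G) (t r z e : G) : Prop extends St A H T where
  tT : t ∈ T
  t2 : t * t = 1
  tA : t ∉ A
  ext : ∀ g ∈ H, g ∉ A → t * g ∈ A
  rS : r ∈ T ⊓ A
  r2 : r * r = z
  z2 : z * z = 1
  z1 : z ≠ 1
  tr' : t * r = r * t
  cen : ∀ s ∈ T ⊓ A, t * s = s * t → s ∈ zpowers r
  eS : e ∈ T ⊓ A
  e2 : e * e = 1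
  e1 : e ≠ 1
  ez : e ≠ z
  zc : T ≤ C1 z
  ce : ∀ g ∈ T, g * e * g⁻¹ = e ∨ g * e * g⁻¹ = e * z
  te : t * e * t⁻¹ = e * z
  mem : ∀ u, u ∈ U ↔ u = 1 ∨ u = z ∨ u = e ∨ u = e * z

namespace Fr

variable (h : Fr A H T U t r z e)
include h

theorem zS : z ∈ T ⊓ A := h.r2 ▸ mul_mem h.rS h.rS

theorem cz (hg : g ∈ T) : g * z = z * g := mem_C1.1 (h.zc hg)

theorem cz' (hg : g ∈ T) : g * z * g⁻¹ = z := by rw [h.cz hg, mul_inv_cancel_right]

theorem ti : t⁻¹ = t := inv_eq_of_mul_eq_one_right h.t2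

theorem ei : e⁻¹ = e := inv_eq_of_mul_eq_one_right h.e2

theorem zU : z ∈ U := (h.mem z).2 (by simp)

theorem eU : e ∈ U := (h.mem e).2 (by simp)

theorem US : U ≤ T ⊓ A := fun u hu => by
  rcases (h.mem u).1 hu with rfl | rfl | rfl | rfl
  exacts [one_mem _, h.zS, h.eS, mul_mem h.eS h.zS]

theorem ez2 : e * z * (e * z) = 1 := by
  rw [mul_assoc, ← mul_assoc z, ← h.cz h.eS.1, mul_assoc, h.z2, mul_one, h.e2]

theorem u2 (hu : u ∈ U) : u * u = 1 := by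
  rcases (h.mem u).1 hu with rfl | rfl | rfl | rfl
  exacts [mul_one _, h.z2, h.e2, h.ez2]

theorem cu (hg : g ∈ T) (hu : u ∈ U) : g * u * g⁻¹ = u ∨ g * u * g⁻¹ = u * z := by
  rcases (h.mem u).1 hu with rfl | rfl | rfl | rfl
  · exact Or.inl (by group)
  · exact Or.inl (h.cz' hg)
  · exact h.ce g hg
  · rw [← conj_mul', h.cz' hg]; exact (h.ce g hg).imp (fun e => by rw [e]) fun e => by rw [e]

theorem cu' (hg : g * e = e * g) (hT : g ∈ T) (hu : u ∈ U) : g * u = u * g := by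
  rcases (h.mem u).1 hu with rfl | rfl | rfl | rfl
  exacts [by group, h.cz hT, hg, by rw [← mul_assoc, hg, mul_assoc, h.cz hT, mul_assoc]]

theorem nU : T ≤ Ns U := fun g hg => mem_normalizer_of_cj_le (cj_le_iff.2 fun u hu => by
  rcases h.cu hg hu with e | e <;> rw [e]
  exacts [hu, mul_mem hu h.zU])

theorem mul_e (ha : a ∈ T) (h1 : a * e * a⁻¹ = e * z) (h2 : b * e * b⁻¹ = e * z) :
    a * b * e = e * (a * b) := by
  rw [← mul_inv_eq_iff_eq_mul, show a * b * e * (a * b)⁻¹ = a * (b * e * b⁻¹) * a⁻¹ by group, h2,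
    ← conj_mul', h1, h.cz' ha, mul_assoc, h.z2, mul_one]

theorem sq_e (hg : g ∈ T) : g * g * e = e * (g * g) := by
  rcases h.ce g hg with h1 | h1
  · rw [mul_inv_eq_iff_eq_mul] at h1
    rw [mul_assoc, h1, ← mul_assoc, h1, mul_assoc]
  · exact h.mul_e hg h1 h1

theorem Z2_e (hx : x ∈ T) (hw : w ∈ Z2 x) : w * e = e * w :=
  (mul_inv_eq_iff_eq_mul.1 (conj_of (by rw [← h.sq_e hx]; group) hw)).symm

theorem sq_u (hg : g ∈ T) (hu : u ∈ U) : g * u * (g * u) = g * g ∨ g * u * (g * u) = g * g * z := by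
  have e1 : g * u * (g * u) = g * g * (g⁻¹ * u * g⁻¹⁻¹ * u) := by group
  rw [e1]
  refine (h.cu (T.inv_mem hg) hu).imp (fun e => ?_) fun e => ?_ <;> rw [e]
  · rw [h.u2 hu, mul_one]
  · rw [mul_assoc u, ← h.cz (h.US hu).1, ← mul_assoc u, h.u2 hu, one_mul]

theorem twoA (ha : a ∈ H) (hb : b ∈ H) (h1 : a ∉ A) (h2 : b ∉ A) : a * b ∈ A := by
  simpa [mul_assoc, ← mul_assoc t t, h.t2] using
    mul_mem (mem_normalizer_conj' (h.nm (h.syl.le h.tT)) (h.ext a ha h1)) (h.ext b hb h2)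

theorem e_mul (hM : z ∈ M) (hb : b ∈ T) (h1 : a * e ∈ M) (h2 : b * e ∈ M) : a * b ∈ M := by
  have e1 : a * b = a * e * (b * (b⁻¹ * e * b⁻¹⁻¹)) := by
    rw [show a * e * (b * (b⁻¹ * e * b⁻¹⁻¹)) = a * (e * e) * b by group, h.e2, mul_one]
  rw [e1]
  rcases h.ce _ (T.inv_mem hb) with e | e <;> rw [e]
  exacts [mul_mem h1 h2, mul_mem h1 (by rw [← mul_assoc]; exact mul_mem h2 hM)]

theorem of_u (hM : z ∈ M) (hw : w ∈ M) (hu : u ∈ U) : w * u ∈ M ∨ w * u * e ∈ M := by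
  rcases (h.mem u).1 hu with rfl | rfl | rfl | rfl
  · exact Or.inl (by rwa [mul_one])
  · exact Or.inl (mul_mem hw hM)
  · exact Or.inr (by rwa [mul_assoc, h.e2, mul_one])
  · exact Or.inr (by
      rw [mul_assoc, mul_assoc, ← h.cz h.eS.1, ← mul_assoc e, h.e2, one_mul]; exact mul_mem hw hM)

theorem inv_eq (hz : z ∈ zpowers x) (hw : g * z * g⁻¹ ∈ zpowers x) : g * z * g⁻¹ = z :=
  (uniq hw hz (by rw [conj_mul', h.z2]; group) h.z2 h.z1).resolve_left fun e =>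
    h.z1 (conj_eq_one_iff.1 e)

theorem inv_eq' (hz : z ∈ zpowers x) (hw : g * e * g⁻¹ ∈ zpowers x) : g * e * g⁻¹ = z :=
  (uniq hw hz (by rw [conj_mul', h.e2]; group) h.z2 h.z1).resolve_left fun e =>
    h.e1 (conj_eq_one_iff.1 e)

theorem alpha (hx : x ∈ T ⊓ A) (hz : z ∈ zpowers x)
    (h1 : ∀ s ∈ T ⊓ A, s ∈ zpowers x ∨ s * e ∈ zpowers x) : False := by
  have h2 : ∀ a ∈ T ⊓ A, ∀ b ∈ T ⊓ A, a ∉ zpowers x → b ∉ zpowers x → a * b ∈ zpowers x :=
    fun a ha b hb h2 h3 => h.e_mul hz hb.1 ((h1 a ha).resolve_left h2) ((h1 b hb).resolve_left h3)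
  have h3 : ∀ p ∈ T ⊓ A, p * p ∈ zpowers x := fun p hp =>
    (em _).elim (fun e => mul_mem e e) fun e => h2 p hp p hp e e
  obtain ⟨a, ha, -, h4⟩ := h.tr1 h2 h.eS.2 h.e2
  have h5 := h.inv_eq' hz h4
  rcases h.ce r h.rS.1 with h6 | h6
  · exact h.ez (kill h.sylS (inf_le_left.trans h.zc) ha h5 h.rS.2 h.r2 h.z2
      (mul_inv_eq_iff_eq_mul.1 h6) fun g _ p hp e => by
        rw [e]; exact h.inv_eq hz (e ▸ h3 p hp))
  have h7 : x ∈ zpowers r := by
    obtain ⟨m, hm⟩ := pow2 h.pg hx.1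
    rcases h1 r h.rS with h7 | h7
    · refine gen hm h7 fun e => h.z1 ?_
      rw [h.Z2_e hx.1 e, mul_inv_cancel_right] at h6
      simpa using h6
    · have h8 : r * e * (r * e) = 1 := by
        calc _ = r * e * r⁻¹ * (r * r) * e := by group
          _ = _ := by rw [h6, h.r2, mul_assoc e, h.z2, mul_one, h.e2]
      have h9 : r = r * e * e := by rw [mul_assoc, h.e2, mul_one]
      refine absurd ?_ h.z1
      rw [← h.r2, h9]
      rcases uniq h7 hz h8 h.z2 h.z1 with e | e <;> rw [e]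
      exacts [by rw [one_mul, h.e2], by rw [← h.cz h.eS.1, h.ez2]]
  have h8 : ∀ w ∈ zpowers x, t * w * t⁻¹ = w := fun w hw =>
    conj_of (by rw [h.tr']; group) (zpowers_le.2 h7 hw)
  refine h.ez (kill h.syl h.zc (h.le ha) h5 (h.syl.le (T.mul_mem h.tT h.rS.1)) ?_ h.z2
    (h.mul_e h.tT h.te h6) fun g _ p hp e0 => ?_)
  · rw [mul_assoc, ← mul_assoc r, ← h.tr', ← mul_assoc, ← mul_assoc, h.t2, one_mul, h.r2]
  rw [e0]
  refine h.inv_eq hz (e0 ▸ ?_)
  by_cases h9 : p ∈ A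
  · exact h3 p ⟨hp, h9⟩
  have h10 : t * p ∈ T ⊓ A := ⟨T.mul_mem h.tT hp, h.ext p (h.syl.le hp) h9⟩
  have e1 : p * p = t * (t * p) * t⁻¹ * (t * p) := by
    rw [← mul_assoc t t, h.t2]; group
  rw [e1]
  generalize t * p = s at h10
  rcases h1 s h10 with h11 | h11
  · rw [h8 s h11]; exact mul_mem h11 h11
  · have e2 : t * s * t⁻¹ = s * z := by
      calc _ = t * (s * e) * t⁻¹ * (t * e * t⁻¹) := by rw [conj_mul', mul_assoc s, h.e2, mul_one]
        _ = _ := by rw [h8 _ h11, h.te, mul_assoc, ← mul_assoc e, h.e2, one_mul]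
    rw [e2, mul_assoc, ← h.cz h10.1, ← mul_assoc]
    exact mul_mem (h3 s h10) hz

theorem cen_mod (hg : g ∈ T) (h1 : g * t * g⁻¹ * t ∈ U) :
    g ∈ U ∨ r * g ∈ U ∨ t * g ∈ U ∨ r * t * g ∈ U := by
  have k1 : ∀ s ∈ T ⊓ A, t * s = s * t → s ∈ U ∨ r * s ∈ U := fun s hs e => by
    have k : ∀ v ∈ Z2 r, v ∈ U := fun v hv => by
      rw [Z2, h.r2] at hv; exact zpowers_le.2 h.zU hv
    rcases cases (h.cen s hs e) with h2 | ⟨v, hv, rfl⟩
    exacts [Or.inl (k s h2), Or.inr (by rw [← mul_assoc, h.r2]; exact mul_mem h.zU (k v hv))]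
  have k2 : ∀ g ∈ T, t * g = g * t → g ∈ U ∨ r * g ∈ U ∨ t * g ∈ U ∨ r * t * g ∈ U :=
    fun g hg e => by
      by_cases h2 : g ∈ A
      · exact (k1 g ⟨hg, h2⟩ e).imp_right Or.inl
      · refine Or.inr (Or.inr ?_)
        rw [mul_assoc]
        exact k1 _ ⟨T.mul_mem h.tT hg, h.ext g (h.syl.le hg) h2⟩ (by rw [mul_assoc, e])
  have e1 : g * t * g⁻¹ = g * t * g⁻¹ * t * t := by rw [mul_assoc _ t t, h.t2, mul_one]
  have e2 : g * t * g⁻¹ * (g * t * g⁻¹) = 1 := by rw [conj_mul', h.t2]; group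
  have e3 : e * t * (e * t) = z := by
    calc _ = e * (t * e * t⁻¹) := by rw [h.ti]; group
      _ = _ := by rw [h.te, ← mul_assoc, h.e2, one_mul]
  rcases (h.mem _).1 h1 with e4 | e4 | e4 | e4 <;> rw [e4] at e1
  · exact k2 g hg (by rw [one_mul, mul_inv_eq_iff_eq_mul] at e1; exact e1.symm)
  · have := k2 (g * e) (T.mul_mem hg h.eS.1) (by
      calc t * (g * e) = z * (z * t) * g * e := by rw [← mul_assoc z, h.z2]; group
        _ = g * (g⁻¹ * z * g⁻¹⁻¹) * (t * e * t⁻¹) * t := by rw [← e1]; group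
        _ = _ := by
          rw [h.cz' (T.inv_mem hg), h.te, h.cz h.eS.1, mul_assoc g, ← mul_assoc z, h.z2, one_mul])
    simpa only [← mul_assoc, mul_mem_cancel_right h.eU] using this
  · rw [e1, e3] at e2; exact absurd e2 h.z1
  · rw [e1, h.cz h.eS.1, mul_assoc z, mul_assoc z, ← mul_assoc (e * t),
      h.cz (T.mul_mem h.eS.1 h.tT), mul_assoc z, e3, h.z2, mul_one] at e2
    exact absurd e2 h.z1

theorem rU : r ∉ U := fun e => h.z1 (h.r2 ▸ h.u2 e)

theorem exists_W : ∃ x ∈ T, ∃ W : Subgroup G, (∀ g, g ∈ W ↔ ∃ w ∈ zpowers x, ∃ u ∈ U, g = w * u) ∧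
    (∀ a ∈ T, ∀ b ∈ T, a ∉ W → b ∉ W → a * b ∈ W) ∧ t ∉ W ∧ r ∈ W := by
  haveI := normal_subgroupOf_of_le_normalizer h.nU
  let π := QuotientGroup.mk' (U.subgroupOf T)
  have k : ∀ a : T, π a = 1 ↔ (a : G) ∈ U := fun a => QuotientGroup.eq_one_iff a
  have sj : ∀ q, ∃ a, π a = q := QuotientGroup.mk'_surjective _
  let t' : T := ⟨t, h.tT⟩
  let r' : T := ⟨r, h.rS.1⟩
  have t2 : π t' * π t' = 1 := by
    rw [← map_mul, k]; show t * t ∈ U; rw [h.t2]; exact one_mem U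
  have r2 : π r' * π r' = 1 := by
    rw [← map_mul, k]; show r * r ∈ U; rw [h.r2]; exact h.zU
  have k2 : ∀ a b : T, π a * π a = 1 → (a : G) * b ∈ U → π b = π a := fun a b e1 e2 => by
    have := (k (a * b)).2 e2
    rw [map_mul] at this
    exact mul_left_cancel (this.trans e1.symm)
  have rt : π r' * π t' = π t' * π r' := by
    rw [← map_mul, ← map_mul]; exact congrArg π (Subtype.ext h.tr'.symm)
  have hc : ∀ g, g * π t' = π t' * g → g = 1 ∨ g = π r' ∨ g = π t' ∨ g = π r' * π t' :=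
    fun q e => by
      obtain ⟨g, rfl⟩ := sj q
      refine (h.cen_mod g.2 ((k (g * t' * g⁻¹ * t')).1 (by
        rw [map_mul, map_mul, map_mul, e, map_inv, mul_inv_cancel_right, t2]))).imp (k g).2
        (Or.imp (k2 r' g r2) (Or.imp (k2 t' g t2) fun e => k2 (r' * t') g ?_ e))
      rw [map_mul, mul_assoc, ← mul_assoc (π t'), ← rt, mul_assoc, t2, mul_one, r2]
  have tA : ∀ a : T, (a : G) ∈ A → π a ≠ π t' := fun a ha e => h.tA (by
    have := (k (a * t')).1 (by rw [map_mul, e, t2])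
    exact (mul_mem_cancel_left ha).1 (h.US this).2)
  obtain ⟨s, hs, s1, h1⟩ := nil h.pg inf_le_left h.ns fun e => h.rU (e h.rS)
  have h2 : ∀ g, g * π ⟨s, hs.1⟩ = π ⟨s, hs.1⟩ * g := fun q => by
    obtain ⟨g, rfl⟩ := sj q
    have := (k (g * ⟨s, hs.1⟩ * g⁻¹ * (⟨s, hs.1⟩ : T)⁻¹)).2 (h1 g g.2)
    rwa [map_mul, map_mul, map_mul, map_inv, map_inv, mul_inv_eq_one, mul_inv_eq_iff_eq_mul] at this
  have h3 : π ⟨s, hs.1⟩ = π r' := by
    rcases hc _ (h2 _).symm with e | e | e | e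
    · exact absurd ((k _).1 e) s1
    · exact e
    · exact absurd e (tA _ hs.2)
    · exact absurd (by rw [map_mul, e, ← mul_assoc, r2, one_mul])
        (tA (r' * ⟨s, hs.1⟩) (A.mul_mem h.rS.2 hs.2))
  obtain ⟨q, h4, h5, h6⟩ := quot (h.pg.to_quotient _) t2 r2 (fun e => tA 1 (one_mem A)
    (by rw [e, map_one])) (fun e => h.rU ((k _).1 e)) (tA r' h.rS.2) (h3 ▸ h2)
    fun g e => (hc g e).imp_right fun e => by tauto
  obtain ⟨x, rfl⟩ := sj q
  have h7 : ∀ a : T, (a : G) ∈ ((zpowers (π x)).comap π).map T.subtype ↔ π a ∈ zpowers (π x) :=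
    fun a => mem_map_iff_mem T.subtype_injective
  refine ⟨x, x.2, ((zpowers (π x)).comap π).map T.subtype, fun g => ⟨?_, ?_⟩,
    fun a ha b hb h8 h9 => (h7 (⟨a, ha⟩ * ⟨b, hb⟩)).2 (h4 _ _ (fun e => h8 ((h7 ⟨a, ha⟩).2 e))
      fun e => h9 ((h7 ⟨b, hb⟩).2 e)), fun e => h5 ((h7 t').1 e), (h7 r').2 h6⟩
  · rintro ⟨a, ⟨i, hi⟩, rfl⟩
    refine ⟨x ^ i, ⟨i, rfl⟩, _, (k ((x ^ i)⁻¹ * a)).1 ?_, by simp⟩
    rw [map_mul, map_inv, map_zpow, inv_mul_eq_one]; exact hi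
  · rintro ⟨_, ⟨i, rfl⟩, u, hu, rfl⟩
    refine (h7 (x ^ i * ⟨u, (h.US hu).1⟩)).2 ?_
    rw [map_mul, (k ⟨u, (h.US hu).1⟩).2 hu, mul_one, map_zpow]; exact ⟨i, rfl⟩

theorem not_mem_A (hx : x ∈ T) (h1 : ∀ g, g ∈ W ↔ ∃ w ∈ zpowers x, ∃ u ∈ U, g = w * u)
    (h2 : ∀ a ∈ T, ∀ b ∈ T, a ∉ W → b ∉ W → a * b ∈ W) (ht : t ∉ W) (hr : r ∈ W) : x ∉ A := by
  intro hA
  have h3 : ∀ s ∈ T ⊓ A, s ∈ W := fun s hs => by_contra fun e => h.tA (by
    obtain ⟨w, hw, u, hu, e⟩ := (h1 _).1 (h2 t h.tT s hs.1 ht e)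
    exact (A.mul_mem_cancel_right hs.2).1 (e ▸ A.mul_mem (zpowers_le.2 hA hw) (h.US hu).2))
  by_cases hz : z ∈ zpowers x
  · refine h.alpha ⟨hx, hA⟩ hz fun s hs => ?_
    obtain ⟨w, hw, u, hu, rfl⟩ := (h1 _).1 (h3 s hs)
    exact h.of_u hz hw hu
  obtain ⟨w, hw, u, hu, e1⟩ := (h1 _).1 hr
  have wT := zpowers_le.2 hx hw
  have w2 : w * w = 1 := by
    have := h.sq_u wT hu
    rw [← e1, h.r2] at this
    simpa using this.resolve_left fun e => hz (e ▸ mul_mem hw hw)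
  obtain ⟨m, hm⟩ := pow2 h.pg hx
  have h4 : x ∈ zpowers w := gen hm hw fun e' => h.z1 (by
    rw [← h.r2, e1, mul_assoc, ← mul_assoc u, ← h.cu' (h.Z2_e hx e') wT hu, mul_assoc, h.u2 hu,
      mul_one, w2])
  have hz' : z ∈ zpowers r := h.r2 ▸ mul_mem (mem_zpowers r) (mem_zpowers r)
  refine h.alpha h.rS hz' fun s hs => ?_
  obtain ⟨v, hv, u', hu', rfl⟩ := (h1 _).1 (h3 s hs)
  rcases (mem_zp w2).1 (zpowers_le.2 h4 hv) with rfl | rfl
  · exact h.of_u hz' (one_mem _) hu'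
  · rw [show v * u' = r * (u⁻¹ * u') by rw [e1]; group]
    exact h.of_u hz' (mem_zpowers r) (mul_mem (inv_mem hu) hu')

end Fr

end Cfsg.Lib.Semi
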